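import Cfsg.Agent.Lib.SolvSF.Apply
import Cfsg.Agent.Lib.SolvSF.CoreBalance
import Cfsg.Agent.Lib.CharTwoEarly
import Cfsg.Agent.Lib.PLocal.ConstrainedLocal
import Cfsg.Agent.Lib.Comp.PComp
import Cfsg.Agent.S0205

/-! The odd subgroup generated by the cores of centralisers, for constrained 2-locals. -/

set_option autoImplicit false
set_option linter.unusedSectionVars false

namespace CfsgLib.TwoLocalSignalizer

open Cfsg Subgroup CfsgLib.Signalizer CfsgLib.SolvSF

variable {G : Type*} [Group G] [Finite G]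

/-- Every involution centraliser is constrained. -/
abbrev Hyp (G : Type*) [Group G] : Prop :=
  ∀ t : G, orderOf t = 2 → IsPConstrained 2 ↥(centralizer ({t} : Set G))

theorem four_le_of_two_lt {A : Subgroup G} (hA : IsPGroup 2 A) (h : 2 < Nat.card A) : 4 ≤ Nat.card A := by
  obtain ⟨i, hi⟩ := IsPGroup.iff_card.mp hA
  rw [hi] at h ⊢
  exact Nat.pow_le_pow_right (show 0 < 2 by norm_num) ((Nat.pow_lt_pow_iff_right (show 1 < 2 by norm_num)).mp
    (show 2 ^ 1 < 2 ^ i by simpa using h))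

theorem eight_le_of_four_lt {A : Subgroup G} (hA : IsPGroup 2 A) (h : 4 < Nat.card A) : 8 ≤ Nat.card A := by
  obtain ⟨i, hi⟩ := IsPGroup.iff_card.mp hA
  rw [hi] at h ⊢
  exact Nat.pow_le_pow_right (show 0 < 2 by norm_num) ((Nat.pow_lt_pow_iff_right (show 1 < 2 by norm_num)).mp
    (show 2 ^ 2 < 2 ^ i by simpa using h))

theorem ea_two_mul_self {A : Subgroup G} (hA : IsElementaryAbelian 2 A) {a : G} (ha : a ∈ A) : a * a = 1 := by
  rw [← pow_two]; exact hA.2 a ha

/-- The cores form a solvable signalizer functor. -/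
theorem isSolvableSignalizerFunctor (hcon : Hyp G) {A : Subgroup G} (hA : IsElementaryAbelian 2 A) :
    IsSolvableSignalizerFunctor 2 A (centralizerPPrimeCore 2) := by
  haveI := Fact.mk Nat.prime_two
  refine ⟨⟨fun a _ _ => CharTwoEarly.core_le a, fun a _ _ h => ?_, fun a ha _ b hb x hx => ?_,
    fun a ha ha1 b hb hb1 x hx => ?_⟩, fun a _ _ => Cfsg.Agent.S0205.result (CharTwoEarly.odd_core a)⟩
  · exact (Nat.not_even_iff_odd.mpr (CharTwoEarly.odd_core a)) (even_iff_two_dvd.mpr h)
  · exact CharTwoEarly.conj_mem_core (ea_comm hA hb ha) hx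
  · exact CharTwoEarly.balance (hcon b (orderOf_eq_prime_of_ea hA hb hb1)) (ea_two_mul_self hA ha)
      (ea_comm hA ha hb) hx.1 (mem_centralizer_singleton_iff.mp hx.2)

/-- The core of a 2-element lies in that of its involution. -/
theorem core_le_core (hcon : Hyp G) {b z : G} (hb : IsPGroup 2 (zpowers b)) (hz : orderOf z = 2)
    (hzb : z ∈ zpowers b) : centralizerPPrimeCore 2 b ≤ centralizerPPrimeCore 2 z := by
  haveI := Fact.mk Nat.prime_two
  set H := centralizer ({z} : Set G)
  obtain ⟨i, hi⟩ := mem_zpowers_iff.mp hzb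
  have hCH : centralizer ({b} : Set G) ≤ H := fun g hg => mem_centralizer_singleton_iff.mpr (by
    rw [← hi]; exact (Commute.zpow_right (mem_centralizer_singleton_iff.mp hg) i).eq)
  have hbH : b ∈ H := hCH (mem_centralizer_singleton_iff.mpr rfl)
  set P := zpowers (⟨b, hbH⟩ : H) with hP
  have hPp : IsPGroup 2 P := by
    obtain ⟨k, hk⟩ := IsPGroup.iff_card.mp hb
    exact IsPGroup.of_card (n := k) (by rw [Nat.card_zpowers, Subgroup.orderOf_mk, ← Nat.card_zpowers, hk])
  have key := CfsgLib.PLocal.pPrimeCore_normalizer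
    (CfsgLib.Transitivity.centralizer_pCore_quotient_le (hcon z hz)) hPp
  set CH := centralizer (P : Set H) with hCHdef
  set D : Subgroup H := (centralizerPPrimeCore 2 b).subgroupOf H with hD
  have hcomm : ∀ g : H, g ∈ CH → (g : G) * b = b * g := fun g hg =>
    (congrArg Subtype.val (hg ⟨b, hbH⟩ (mem_zpowers _))).symm
  have hDC : D ≤ CH := fun x hx q hq => by
    obtain ⟨j, rfl⟩ := mem_zpowers_iff.mp (SetLike.mem_coe.mp hq)
    exact Subtype.ext (by
      push_cast
      exact ((show Commute b (x : G) from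
        (mem_centralizer_singleton_iff.mp (Subgroup.map_subtype_le _ hx)).symm).zpow_left j).eq)
  have hDn : CH ≤ normalizer (D : Set H) := fun g hg => CfsgLib.Comp.mem_normalizer_of_maps fun x hx =>
    CharTwoEarly.conj_mem_core (hcomm g hg) hx
  have hDp : (Nat.card D).Coprime 2 := by
    have h1 : Nat.card D ∣ Nat.card (centralizerPPrimeCore 2 b) :=
      Subgroup.card_dvd_of_injective (H.subtype.subgroupComap (centralizerPPrimeCore 2 b))
        (fun u v e => Subtype.ext (Subtype.ext (congrArg (fun w : centralizerPPrimeCore 2 b => (w : G)) e)))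
    exact Nat.Coprime.coprime_dvd_left h1 (Nat.coprime_two_right.mpr (CharTwoEarly.odd_core b))
  haveI : (D.subgroupOf CH).Normal := (normal_subgroupOf_iff_le_normalizer hDC).mpr hDn
  set N := normalizer (P : Set H) with hN
  have hCN : CH ≤ N := CfsgLib.Comp.centralizer_le_normalizer' P
  haveI : (CH.subgroupOf N).Normal := centralizer_subgroupOf_normalizer_normal P
  have hD1 : (D.subgroupOf N).IsSubnormal := by
    refine Subgroup.IsSubnormal.step _ (CH.subgroupOf N) (fun x hx => hDC hx)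
      (Subgroup.Normal.isSubnormal inferInstance) ?_
    refine (normal_subgroupOf_iff_le_normalizer
      (show D.subgroupOf N ≤ CH.subgroupOf N from fun x hx => hDC hx)).mpr fun g hg => ?_
    exact CfsgLib.Comp.mem_normalizer_of_maps fun x hx => (mem_normalizer_iff.mp (hDn hg) (x : H)).mp hx
  have hD2 : D.subgroupOf N ≤ pPrimeCore 2 ↥N := CfsgLib.Comp.subnormal_coprime_le hD1 (by
    rwa [Nat.card_congr (subgroupOfEquivOfLe (hDC.trans hCN)).toEquiv])
  intro x hx
  have hxH : x ∈ H := hCH (CharTwoEarly.core_le b hx)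
  have hxD : (⟨x, hxH⟩ : H) ∈ D := hx
  exact ⟨⟨x, hxH⟩, (key.le ⟨⟨⟨x, hxH⟩, hCN (hDC hxD)⟩, hD2 hxD, rfl⟩).1, rfl⟩

/-- An involution acting on an elementary abelian 2-group of order at least 8 fixes at least 4 elements. -/
theorem four_le_fixed {E : Subgroup G} (hE : IsElementaryAbelian 2 E) (hE8 : 8 ≤ Nat.card E) {a : G}
    (ha : a * a = 1) (haE : ∀ x ∈ E, a * x * a⁻¹ ∈ E) :
    4 ≤ Nat.card ↥(E ⊓ centralizer ({a} : Set G)) := by
  haveI := Fact.mk Nat.prime_two
  have hsq : ∀ x ∈ E, x * x = 1 := fun x hx => ea_two_mul_self hE hx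
  let δ : E →* E :=
    { toFun := fun x => ⟨a * x * a⁻¹ * x, mul_mem (haE _ x.2) x.2⟩
      map_one' := Subtype.ext (by simp)
      map_mul' := fun x y => Subtype.ext (by
        change a * ((x : G) * y) * a⁻¹ * ((x : G) * y) = (a * x * a⁻¹ * x) * (a * y * a⁻¹ * y)
        calc a * ((x : G) * y) * a⁻¹ * ((x : G) * y) = a * x * a⁻¹ * ((a * y * a⁻¹) * x) * y := by group
          _ = a * x * a⁻¹ * ((x : G) * (a * y * a⁻¹)) * y := by rw [ea_comm hE (haE _ y.2) x.2]
          _ = _ := by group) }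
  have hker : Nat.card δ.ker ≤ Nat.card ↥(E ⊓ centralizer ({a} : Set G)) := by
    rw [← Subgroup.card_map_of_injective E.subtype_injective]
    refine Subgroup.card_le_of_le ?_
    rintro _ ⟨x, hx, rfl⟩
    refine ⟨x.2, mem_centralizer_singleton_iff.mpr ?_⟩
    have h1 : a * (x : G) * a⁻¹ * x = 1 := congrArg Subtype.val hx
    have h2 : a * (x : G) * a⁻¹ = x := (eq_inv_of_mul_eq_one_left h1).trans (inv_eq_of_mul_eq_one_right (hsq _ x.2))
    exact (mul_inv_eq_iff_eq_mul.mp h2).symm
  have hran : Nat.card δ.range ≤ Nat.card ↥(E ⊓ centralizer ({a} : Set G)) := by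
    rw [← Subgroup.card_map_of_injective E.subtype_injective]
    refine Subgroup.card_le_of_le ?_
    rintro _ ⟨_, ⟨x, rfl⟩, rfl⟩
    refine ⟨(δ x).2, mem_centralizer_singleton_iff.mpr ?_⟩
    change a * x * a⁻¹ * x * a = a * (a * x * a⁻¹ * x)
    have hai : a⁻¹ = a := inv_eq_of_mul_eq_one_right ha
    calc a * x * a⁻¹ * x * a = (a * x * a⁻¹) * ((x : G)) * a := by group
      _ = (x : G) * (a * x * a⁻¹) * a := by rw [ea_comm hE (haE _ x.2) x.2]
      _ = (x : G) * a * x := by group
      _ = (a * a) * (x * a⁻¹ * x) := by rw [hai, ha, one_mul]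
      _ = _ := by group
  have hmul : Nat.card δ.range * Nat.card δ.ker = Nat.card E := by
    rw [← Subgroup.index_ker, Subgroup.index_mul_card]
  have h3 : 2 < Nat.card ↥(E ⊓ centralizer ({a} : Set G)) := by
    by_contra h
    push Not at h
    have := Nat.mul_le_mul (hran.trans h) (hker.trans h)
    omega
  exact four_le_of_two_lt (isPGroup_ea (ea_le hE inf_le_left)) h3

/-- The candidate. -/
abbrev Wf (B : Subgroup G) : Subgroup G :=
  ⨆ b : {b : G // b ∈ B ∧ b ≠ 1}, centralizerPPrimeCore 2 (b : G)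

theorem core_le_Wf {B : Subgroup G} {b : G} (hb : b ∈ B) (hb1 : b ≠ 1) :
    centralizerPPrimeCore 2 b ≤ Wf B :=
  le_iSup (fun b : {b : G // b ∈ B ∧ b ≠ 1} => centralizerPPrimeCore 2 (b : G)) ⟨b, hb, hb1⟩

/-- A four-subgroup of an elementary abelian subgroup of order at least 8 gives the same candidate. -/
theorem Wf_eq (hcon : Hyp G) {A F : Subgroup G} (hA : IsElementaryAbelian 2 A) (hA8 : 8 ≤ Nat.card A)
    (hFA : F ≤ A) (hF : 4 ≤ Nat.card F) : Wf F = Wf A := by
  haveI := Fact.mk Nat.prime_two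
  obtain ⟨hX, hc⟩ := closure_spec (p := 2) hA (by simpa using hA8) (isSolvableSignalizerFunctor hcon hA)
  refine le_antisymm (iSup_le fun b => core_le_Wf (hFA b.2.1) b.2.2)
    (gen_le (ea_le hA hFA) (by omega) hX.2.1 (hFA.trans (mem_normalizes hX)) fun b hb hb1 => ?_)
  exact (hc b (hFA hb) hb1).le.trans (core_le_Wf hb hb1)

theorem map_Wf_le (g : G) {B C : Subgroup G} (h : ∀ x ∈ B, g * x * g⁻¹ ∈ C) :
    (Wf B).map (MulAut.conj g).toMonoidHom ≤ Wf C := by
  rw [Subgroup.map_iSup]
  refine iSup_le fun b => ?_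
  rw [map_centralizerPPrimeCore']
  exact core_le_Wf (h _ b.2.1) fun e => b.2.2 (conj_eq_one_iff.mp e)

theorem normalizer_le_normalizer_Wf (B : Subgroup G) :
    normalizer (B : Set G) ≤ normalizer (Wf B : Set G) := fun g hg =>
  CfsgLib.Comp.mem_normalizer_of_maps fun x hx =>
    map_Wf_le g (fun y hy => (mem_normalizer_iff.mp hg y).mp hy) ⟨x, hx, rfl⟩

/-- The main result. -/
theorem exists_odd_generated (hcon : Hyp G) (S : Sylow 2 G) {E : Subgroup G} (hES : E ≤ (S : Subgroup G))
    (hSE : (S : Subgroup G) ≤ normalizer (E : Set G)) (hE : IsElementaryAbelian 2 E) (hE8 : 8 ≤ Nat.card E) :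
    ∃ W : Subgroup G, Odd (Nat.card ↥W) ∧
      ∀ B : Subgroup G, B ≤ (S : Subgroup G) → ¬ PRankLE 2 1 ↥B →
        W = Wf B ∧ normalizer (B : Set G) ≤ normalizer (W : Set G) := by
  haveI := Fact.mk Nat.prime_two
  obtain ⟨hX, hc⟩ := closure_spec (p := 2) hE (by simpa using hE8) (isSolvableSignalizerFunctor hcon hE)
  have hodd : Odd (Nat.card ↥(Wf E)) :=
    Nat.not_even_iff_odd.mp fun h => hX.2.1 (even_iff_two_dvd.mp h)
  have hSW : (S : Subgroup G) ≤ normalizer (Wf E : Set G) := hSE.trans (normalizer_le_normalizer_Wf E)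
  have hinv : ∀ a ∈ (S : Subgroup G), orderOf a = 2 →
      centralizerPPrimeCore 2 a ≤ Wf E ∧ Wf E ⊓ centralizer {a} ≤ centralizerPPrimeCore 2 a := by
    intro a haS ha
    have haa : a * a = 1 := by rw [← pow_two, ← ha, pow_orderOf_eq_one]
    have ha1 : a ≠ 1 := fun e => by rw [e, orderOf_one] at ha; norm_num at ha
    by_cases haE : a ∈ E
    · exact ⟨core_le_Wf haE ha1, (hc a haE ha1).le⟩
    set F := E ⊓ centralizer ({a} : Set G) with hFdef
    have hF4 : 4 ≤ Nat.card F := four_le_fixed hE hE8 haa fun x hx => (mem_normalizer_iff.mp (hSE haS) x).mp hx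
    have hFE : F ≤ E := inf_le_left
    let A₀ : Subgroup G := zpowers a ⊔ F
    have hA₀ : IsElementaryAbelian 2 A₀ := by
      have hdec : ∀ z ∈ A₀, ∃ x ∈ zpowers a, ∃ y ∈ F, z = x * y := fun z hz =>
        Comp.mem_sup_of_commutator_eq_bot (Subgroup.commutator_eq_bot_iff_le_centralizer.mpr (by
          rintro x ⟨i, rfl⟩ y hy
          exact ((show Commute y a from mem_centralizer_singleton_iff.mp hy.2).zpow_right i).eq)) hz
      have hcomm : ∀ x ∈ zpowers a, ∀ y ∈ F, Commute x y := by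
        rintro x ⟨i, rfl⟩ y hy
        exact ((show Commute y a from mem_centralizer_singleton_iff.mp hy.2).zpow_right i).symm
      refine ea_of_comm ?_ ?_
      · intro z hz w hw
        obtain ⟨x, hx, y, hy, rfl⟩ := hdec z hz
        obtain ⟨x', hx', y', hy', rfl⟩ := hdec w hw
        have hxx : Commute x x' := by
          obtain ⟨i, rfl⟩ := hx
          obtain ⟨j, rfl⟩ := hx'
          exact Commute.zpow_zpow (Commute.refl a) i j
        exact ((hxx.mul_right (hcomm x hx y' hy')).mul_left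
          ((hcomm x' hx' y hy).symm.mul_right (ea_comm hE (hFE hy) (hFE hy')))).eq
      · intro z hz
        obtain ⟨x, hx, y, hy, rfl⟩ := hdec z hz
        rw [(hcomm x hx y hy).mul_pow, hE.2 y (hFE hy), mul_one]
        obtain ⟨i, rfl⟩ := hx
        show (a ^ i) ^ 2 = 1
        rw [← zpow_natCast, ← zpow_mul, mul_comm, zpow_mul, zpow_natCast, pow_two, haa, one_zpow]
    have hA8 : 8 ≤ Nat.card A₀ := by
      refine eight_le_of_four_lt (isPGroup_ea hA₀) ?_
      by_contra hle
      push Not at hle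
      have h := Subgroup.eq_of_le_of_card_ge (le_sup_right : F ≤ A₀) (hle.trans hF4)
      exact haE (hFE (h.ge (mem_sup_left (mem_zpowers a))))
    have e : Wf A₀ = Wf E := (Wf_eq hcon hA₀ hA8 le_sup_right hF4).symm.trans (Wf_eq hcon hE hE8 hFE hF4)
    obtain ⟨-, hc0⟩ := closure_spec (p := 2) hA₀ (by simpa using hA8) (isSolvableSignalizerFunctor hcon hA₀)
    have haA : a ∈ A₀ := mem_sup_left (mem_zpowers a)
    exact ⟨e ▸ core_le_Wf haA ha1, e ▸ (hc0 a haA ha1).le⟩
  refine ⟨Wf E, hodd, fun B hBS hB => ?_⟩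
  -- a four group in B
  simp only [PRankLE, not_forall, not_le, pow_one] at hB
  obtain ⟨V₀, hVc, hVe, hVlt⟩ := hB
  set V := V₀.map B.subtype with hVdef
  have hV : IsElementaryAbelian 2 V := by
    refine ea_of_comm ?_ ?_
    · rintro _ ⟨x, hx, rfl⟩ _ ⟨y, hy, rfl⟩
      exact congrArg Subtype.val (congrArg Subtype.val (hVc.is_comm.comm ⟨x, hx⟩ ⟨y, hy⟩))
    · rintro _ ⟨x, hx, rfl⟩
      rw [← map_pow, hVe x hx, map_one]
  have hVB : V ≤ B := Subgroup.map_subtype_le _
  have hVcard : 2 < Nat.card V := by rwa [hVdef, Subgroup.card_map_of_injective B.subtype_injective]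
  have hle : Wf B ≤ Wf E := iSup_le fun b => by
    have hbS := hBS b.2.1
    have hbp : IsPGroup 2 (zpowers (b : G)) := (S.isPGroup').to_le (Subgroup.zpowers_le.mpr hbS)
    have hdvd : 2 ∣ orderOf (b : G) := by
      obtain ⟨k, hk⟩ := IsPGroup.iff_card.mp hbp
      rw [Nat.card_zpowers] at hk
      rw [hk]
      refine dvd_pow_self 2 fun e => b.2.2 ?_
      rw [e, pow_zero, orderOf_eq_one_iff] at hk
      exact hk
    obtain ⟨z, hzord⟩ := exists_prime_orderOf_dvd_card' (G := zpowers (b : G)) 2 (by rwa [Nat.card_zpowers])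
    have hz : orderOf (z : G) = 2 := by rwa [Subgroup.orderOf_coe]
    exact (core_le_core hcon hbp hz z.2).trans
      (hinv _ (Subgroup.zpowers_le.mpr hbS z.2) hz).1
  have hge : Wf E ≤ Wf B := gen_le hV hVcard hX.2.1 ((hVB.trans hBS).trans hSW) fun v hv hv1 =>
    ((hinv v (hBS (hVB hv)) (orderOf_eq_prime_of_ea hV hv hv1)).2).trans (core_le_Wf (hVB hv) hv1)
  have heq : Wf E = Wf B := le_antisymm hge hle
  exact ⟨heq, heq ▸ normalizer_le_normalizer_Wf B⟩

end CfsgLib.TwoLocalSignalizer
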