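import Cfsg.Agent.Lib.TwoLocalSignalizer.Main
import Cfsg.Agent.Lib.Bender.GoodAll
import Cfsg.Agent.Lib.Comp.CharPType
import Cfsg.Agent.Lib.Comp.PCompMore
import Cfsg.Agent.Lib.SmallSimple.RadicalQuotient
import Cfsg.Agent.Lib.QuaternionSection
import Cfsg.Agent.Lib.AlmostCyclic.DBasic
import Cfsg.Agent.Lib.StrongEmbedS4.Main
import Cfsg.Agent.Lib.Comp.PTerminal

/-!
A group of 2-rank at least three, not of component type, with a connected Sylow 2-subgroup and trivial core: the cores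
of the centralisers generate an odd subgroup whose normaliser would be strongly embedded, so they are trivial and all
2-local subgroups have characteristic two.
-/

set_option autoImplicit false
set_option linter.unusedSectionVars false
set_option linter.style.haveILetI false

universe u

namespace CfsgLib.TwoLocalSignalizer

open Cfsg Subgroup CfsgLib.Signalizer CfsgLib.SolvSF

variable {G : Type u} [Group G] [Finite G]

/-- Without components in their reduced centralisers the involution centralisers are constrained. -/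
theorem hyp_of_not_componentType (hc : ¬ IsComponentType G) : Hyp G := fun t ht => by
  haveI := Fact.mk Nat.prime_two
  refine (Comp.constrained_iff).mpr (Comp.pLayer_eq_bot_iff.mpr ?_)
  refine eq_bot_iff.mpr (sSup_le fun K hK => ?_)
  exact absurd ⟨t, ht, ⟨K, hK.1, hK.2⟩⟩ hc

theorem ea_of_klein {U : Subgroup G} (hU : IsKleinFour U) : IsElementaryAbelian 2 U ∧ Nat.card U = 4 := by
  haveI := hU
  refine ⟨SolvSF.ea_of_comm (fun a ha b hb => congrArg Subtype.val (mul_comm_of_exponent_two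
    (IsKleinFour.exponent_two) (⟨a, ha⟩ : U) ⟨b, hb⟩)) fun a ha => ?_, IsKleinFour.card_four⟩
  rw [pow_two]
  exact congrArg Subtype.val (IsKleinFour.mul_self (⟨a, ha⟩ : U))

theorem klein_of_ea {U : Subgroup G} (hU : IsElementaryAbelian 2 U) (h4 : Nat.card U = 4) : IsKleinFour U where
  card_four := h4
  exponent_two := by
    haveI : Nontrivial U := Finite.one_lt_card_iff_nontrivial.mp (by omega)
    refine (Nat.dvd_prime Nat.prime_two).1 (Monoid.exponent_dvd_of_forall_pow_eq_one fun u => ?_) |>.resolve_left ?_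
    · exact Subtype.ext (hU.2 u u.2)
    · intro h
      exact not_subsingleton U (Monoid.exp_eq_one_iff.mp h)

/-- A subgroup of rank at least two has a four group. -/
theorem exists_four {B : Subgroup G} (hB : IsPGroup 2 B) (h : ¬ PRankLE 2 1 ↥B) :
    ∃ V ≤ B, IsElementaryAbelian 2 V ∧ Nat.card V = 4 := by
  haveI := Fact.mk Nat.prime_two
  simp only [PRankLE, not_forall, not_le, pow_one] at h
  obtain ⟨V₀, hVc, hVe, hVlt⟩ := h
  have hdvd : 2 ^ 2 ∣ Nat.card V₀ := by
    obtain ⟨k, hk⟩ := (hB.to_subgroup V₀).exists_card_eq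
    rw [hk] at hVlt ⊢
    refine pow_dvd_pow 2 (Nat.succ_le_of_lt ((Nat.pow_lt_pow_iff_right (show 1 < 2 by norm_num)).mp ?_))
    simpa using hVlt
  obtain ⟨W, hW⟩ := Sylow.exists_subgroup_card_pow_prime (G := V₀) 2 hdvd
  refine ⟨(W.map V₀.subtype).map B.subtype, Subgroup.map_subtype_le _, SolvSF.ea_of_comm ?_ ?_, ?_⟩
  · rintro _ ⟨_, ⟨x, -, rfl⟩, rfl⟩ _ ⟨_, ⟨y, -, rfl⟩, rfl⟩
    exact congrArg Subtype.val (congrArg Subtype.val (hVc.is_comm.comm x y))
  · rintro _ ⟨_, ⟨x, -, rfl⟩, rfl⟩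
    rw [← map_pow]
    exact (congrArg B.subtype (hVe x x.2)).trans (map_one _)
  · rw [Subgroup.card_map_of_injective B.subtype_injective, Subgroup.card_map_of_injective V₀.subtype_injective, hW]
    norm_num

/-- The join of two elementary abelian subgroups commuting elementwise. -/
theorem ea_sup {A B : Subgroup G} (hA : IsElementaryAbelian 2 A) (hB : IsElementaryAbelian 2 B)
    (h : ∀ a ∈ A, ∀ b ∈ B, a * b = b * a) : IsElementaryAbelian 2 (A ⊔ B) := by
  have hn : A ≤ normalizer (B : Set G) := fun a ha => Comp.mem_normalizer_of_maps fun b hb => by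
    rw [h a ha b hb, mul_inv_cancel_right]; exact hb
  have hdec : ∀ x ∈ A ⊔ B, ∃ a ∈ A, ∃ b ∈ B, x = a * b := fun x hx => by
    rw [← SetLike.mem_coe, Subgroup.coe_mul_of_left_le_normalizer_right _ _ hn] at hx
    obtain ⟨a, ha, b, hb, e⟩ := hx
    exact ⟨a, ha, b, hb, e.symm⟩
  refine SolvSF.ea_of_comm (fun x hx y hy => ?_) fun x hx => ?_
  · obtain ⟨a, ha, b, hb, rfl⟩ := hdec x hx
    obtain ⟨c, hc, d, hd, rfl⟩ := hdec y hy
    exact (((show Commute a c from ea_comm hA ha hc).mul_right (h a ha d hd)).mul_left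
      ((show Commute c b from h c hc b hb).symm.mul_right (ea_comm hB hb hd))).eq
  · obtain ⟨a, ha, b, hb, rfl⟩ := hdec x hx
    rw [(show Commute a b from h a ha b hb).mul_pow, hA.2 a ha, hB.2 b hb, one_mul]

variable (S : Sylow 2 G)

/-- A four group of a connected Sylow subgroup lies in an elementary abelian subgroup of order at least eight. -/
theorem exists_eight_above (h3 : ¬ PRankLE 2 2 G) (hS : IsFourConnected (S : Subgroup G)) {V : Subgroup G}
    (hVS : V ≤ (S : Subgroup G)) (hV : IsElementaryAbelian 2 V) (hV4 : Nat.card V = 4) :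
    ∃ A ≤ (S : Subgroup G), IsElementaryAbelian 2 A ∧ 8 ≤ Nat.card A ∧ V ≤ A := by
  haveI := Fact.mk Nat.prime_two
  -- an elementary abelian subgroup of order at least eight inside `S`
  simp only [PRankLE, not_forall, not_le] at h3
  obtain ⟨E₀, hEc, hEe, hElt⟩ := h3
  have hE₀ : IsElementaryAbelian 2 E₀ :=
    SolvSF.ea_of_comm (fun a ha b hb => congrArg Subtype.val (hEc.is_comm.comm ⟨a, ha⟩ ⟨b, hb⟩)) hEe
  obtain ⟨R, hR⟩ := (isPGroup_ea hE₀).exists_le_sylow
  obtain ⟨g, hg⟩ := MulAction.exists_smul_eq G R S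
  set E := E₀.map (MulAut.conj g).toMonoidHom
  have hE : IsElementaryAbelian 2 E := by
    refine SolvSF.ea_of_comm ?_ ?_
    · rintro _ ⟨a, ha, rfl⟩ _ ⟨b, hb, rfl⟩
      rw [← map_mul, ea_comm hE₀ ha hb, map_mul]
    · rintro _ ⟨a, ha, rfl⟩
      rw [← map_pow, hEe a ha, map_one]
  have hES : E ≤ (S : Subgroup G) := by
    rintro _ ⟨a, ha, rfl⟩
    rw [← hg]
    exact ⟨a, hR ha, rfl⟩
  have hE8 : 8 ≤ Nat.card E := by
    rw [Subgroup.card_map_of_injective (MulAut.conj g).injective]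
    exact eight_le_of_four_lt (isPGroup_ea hE₀) (by simpa using hElt)
  by_cases hVE : V ≤ E
  · exact ⟨E, hES, hE, hE8, hVE⟩
  -- a four group of `E`
  obtain ⟨F, hFE, hF, hF4⟩ := exists_four (isPGroup_ea hE) fun h => by
    have := h ⊤ ⟨⟨fun a b => Subtype.ext (Subtype.ext (ea_comm hE (a : E).2 (b : E).2))⟩⟩
      fun a _ => Subtype.ext (hE.2 a a.2)
    rw [Subgroup.card_top] at this
    omega
  have hsub : ∀ {U : Subgroup G}, U ≤ (S : Subgroup G) → IsElementaryAbelian 2 U → Nat.card U = 4 →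
      IsKleinFour ↥(U.subgroupOf (S : Subgroup G)) := fun {U} hUS hU hU4 => by
    refine klein_of_ea (SolvSF.ea_of_comm (fun a ha b hb => Subtype.ext (ea_comm hU ha hb))
      fun a ha => Subtype.ext (hU.2 _ ha)) ?_
    rw [Nat.card_congr (subgroupOfEquivOfLe hUS).toEquiv, hU4]
  have hne : V.subgroupOf (S : Subgroup G) ≠ F.subgroupOf (S : Subgroup G) := fun e => hVE (by
    intro v hv
    exact hFE ((e.le (show (⟨v, hVS hv⟩ : (S : Subgroup G)) ∈ V.subgroupOf _ from hv)) :))
  have hchain := hS _ _ (hsub hVS hV hV4) (hsub (hFE.trans hES) hF hF4)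
  -- the first step leaving `V`
  have key : ∀ {X Y : Subgroup ↥(S : Subgroup G)}, Relation.ReflTransGen
      (fun A B : Subgroup ↥(S : Subgroup G) => IsKleinFour A ∧ IsKleinFour B ∧ ∀ a ∈ A, ∀ b ∈ B, a * b = b * a) X Y →
      X ≠ Y → ∃ B : Subgroup ↥(S : Subgroup G), IsKleinFour B ∧ B ≠ X ∧ ∀ a ∈ X, ∀ b ∈ B, a * b = b * a := by
    intro X Y h
    induction h with
    | refl => exact fun h => absurd rfl h
    | @tail Y Y' _ hstep ih =>
      intro hXY
      rcases eq_or_ne X Y with rfl | hne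
      · exact ⟨Y', hstep.2.1, hXY.symm, hstep.2.2⟩
      · exact ih hne
  obtain ⟨B', hB', hBne, hcomm⟩ := key hchain hne
  obtain ⟨hB'e, hB'4⟩ := ea_of_klein hB'
  set B := B'.map (S : Subgroup G).subtype
  have hB : IsElementaryAbelian 2 B := by
    refine SolvSF.ea_of_comm ?_ ?_
    · rintro _ ⟨a, ha, rfl⟩ _ ⟨b, hb, rfl⟩
      exact congrArg Subtype.val (ea_comm hB'e ha hb)
    · rintro _ ⟨a, ha, rfl⟩
      exact congrArg Subtype.val (hB'e.2 a ha)
  have hVB : IsElementaryAbelian 2 (V ⊔ B) := ea_sup hV hB (by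
    rintro v hv _ ⟨b, hb, rfl⟩
    exact congrArg Subtype.val (hcomm ⟨v, hVS hv⟩ hv b hb))
  refine ⟨V ⊔ B, sup_le hVS (Subgroup.map_subtype_le _), hVB, ?_, le_sup_left⟩
  refine eight_le_of_four_lt (isPGroup_ea hVB) (lt_of_le_of_ne ?_ fun e => hBne ?_)
  · exact hV4 ▸ Subgroup.card_le_of_le le_sup_left
  · have h1 : V = V ⊔ B := Subgroup.eq_of_le_of_card_ge le_sup_left (by omega)
    have h2 : B ≤ V := h1 ▸ le_sup_right
    have h3 : Nat.card B = 4 := by rw [Subgroup.card_map_of_injective (S : Subgroup G).subtype_injective, hB'4]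
    have h4 : B = V := Subgroup.eq_of_le_of_card_ge h2 (by omega)
    rw [← h4]
    exact (Subgroup.comap_map_eq_self_of_injective (S : Subgroup G).subtype_injective B').symm

/-- The odd subgroup attached to all four groups of a connected Sylow subgroup. -/
theorem exists_odd_connected (hcon : Hyp G) (h3 : ¬ PRankLE 2 2 G) (hS : IsFourConnected (S : Subgroup G)) :
    ∃ W : Subgroup G, Odd (Nat.card ↥W) ∧
      (∀ B : Subgroup G, B ≤ (S : Subgroup G) → ¬ PRankLE 2 1 ↥B → W = Wf B) ∧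
      (∀ t ∈ (S : Subgroup G), orderOf t = 2 → centralizerPPrimeCore 2 t ≤ W ∧
        ∃ A ≤ (S : Subgroup G), IsElementaryAbelian 2 A ∧ 8 ≤ Nat.card A ∧ t ∈ A) := by
  haveI := Fact.mk Nat.prime_two
  have hstep : ∀ {V U : Subgroup G}, V ≤ (S : Subgroup G) → IsElementaryAbelian 2 V → Nat.card V = 4 →
      IsElementaryAbelian 2 U → Nat.card U = 4 → (∀ a ∈ V, ∀ b ∈ U, a * b = b * a) → Wf V = Wf U := by
    intro V U hVS hV hV4 hU hU4 hc
    by_cases hUV : U ≤ V
    · rw [Subgroup.eq_of_le_of_card_ge hUV (by omega)]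
    have hA := ea_sup hV hU hc
    have h8 : 8 ≤ Nat.card ↥(V ⊔ U) := by
      refine eight_le_of_four_lt (isPGroup_ea hA) (lt_of_le_of_ne (hV4 ▸ Subgroup.card_le_of_le le_sup_left) ?_)
      intro e
      exact hUV (le_sup_right.trans (Subgroup.eq_of_le_of_card_ge le_sup_left (by omega)).ge)
    rw [Wf_eq hcon hA h8 le_sup_left hV4.ge, Wf_eq hcon hA h8 le_sup_right hU4.ge]
  -- the four groups of `S` give one subgroup
  have hconst : ∀ {V U : Subgroup G}, V ≤ (S : Subgroup G) → IsElementaryAbelian 2 V → Nat.card V = 4 →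
      U ≤ (S : Subgroup G) → IsElementaryAbelian 2 U → Nat.card U = 4 → Wf V = Wf U := by
    intro V U hVS hV hV4 hUS hU hU4
    have hsub : ∀ {U : Subgroup G}, U ≤ (S : Subgroup G) → IsElementaryAbelian 2 U → Nat.card U = 4 →
        IsKleinFour ↥(U.subgroupOf (S : Subgroup G)) := fun {U} hUS hU hU4 => by
      refine klein_of_ea (SolvSF.ea_of_comm (fun a ha b hb => Subtype.ext (ea_comm hU ha hb))
        fun a ha => Subtype.ext (hU.2 _ ha)) ?_
      rw [Nat.card_congr (subgroupOfEquivOfLe hUS).toEquiv, hU4]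
    have hkey : ∀ {X Y : Subgroup ↥(S : Subgroup G)}, Relation.ReflTransGen
        (fun A B : Subgroup ↥(S : Subgroup G) => IsKleinFour A ∧ IsKleinFour B ∧ ∀ a ∈ A, ∀ b ∈ B, a * b = b * a) X Y →
        Wf (X.map (S : Subgroup G).subtype) = Wf (Y.map (S : Subgroup G).subtype) := by
      intro X Y h
      induction h with
      | refl => rfl
      | @tail Y Y' _ hst ih =>
        rw [ih]
        have hf : ∀ {Z : Subgroup ↥(S : Subgroup G)}, IsKleinFour Z →
            IsElementaryAbelian 2 (Z.map (S : Subgroup G).subtype) ∧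
              Nat.card ↥(Z.map (S : Subgroup G).subtype) = 4 := fun {Z} hZ => by
          obtain ⟨he, h4⟩ := ea_of_klein hZ
          refine ⟨SolvSF.ea_of_comm ?_ ?_, by rw [Subgroup.card_map_of_injective (S : Subgroup G).subtype_injective, h4]⟩
          · rintro _ ⟨a, ha, rfl⟩ _ ⟨b, hb, rfl⟩
            exact congrArg Subtype.val (ea_comm he ha hb)
          · rintro _ ⟨a, ha, rfl⟩
            exact congrArg Subtype.val (he.2 a ha)
        refine hstep (Subgroup.map_subtype_le _) (hf hst.1).1 (hf hst.1).2 (hf hst.2.1).1 (hf hst.2.1).2 ?_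
        rintro _ ⟨a, ha, rfl⟩ _ ⟨b, hb, rfl⟩
        exact congrArg Subtype.val (hst.2.2 a ha b hb)
    have h := hkey (hS _ _ (hsub hVS hV hV4) (hsub hUS hU hU4))
    rwa [Subgroup.map_subgroupOf_eq_of_le hVS, Subgroup.map_subgroupOf_eq_of_le hUS] at h
  -- an elementary abelian subgroup of order eight above every involution
  have hrank : ¬ PRankLE 2 1 ↥(S : Subgroup G) := by
    intro h
    simp only [PRankLE, not_forall, not_le] at h3
    obtain ⟨E₀, hEc, hEe, hElt⟩ := h3
    obtain ⟨R, hR⟩ := (isPGroup_ea (p := 2) (SolvSF.ea_of_comm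
      (fun a ha b hb => congrArg Subtype.val (hEc.is_comm.comm ⟨a, ha⟩ ⟨b, hb⟩)) hEe)).exists_le_sylow
    obtain ⟨g, hg⟩ := MulAction.exists_smul_eq G R S
    have hle : E₀.map (MulAut.conj g).toMonoidHom ≤ (S : Subgroup G) := by
      rintro _ ⟨a, ha, rfl⟩
      rw [← hg]
      exact ⟨a, hR ha, rfl⟩
    have h1 := h ((E₀.map (MulAut.conj g).toMonoidHom).subgroupOf (S : Subgroup G)) ⟨⟨fun a b => by
      obtain ⟨x, hx, ex⟩ := a.2
      obtain ⟨y, hy, ey⟩ := b.2
      refine Subtype.ext (Subtype.ext ?_)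
      show ((a : (S : Subgroup G)) : G) * ((b : (S : Subgroup G)) : G) = _ * _
      rw [show ((a : (S : Subgroup G)) : G) = MulAut.conj g x from ex.symm,
        show ((b : (S : Subgroup G)) : G) = MulAut.conj g y from ey.symm, ← map_mul, ← map_mul]
      exact congrArg _ (congrArg Subtype.val (hEc.is_comm.comm ⟨x, hx⟩ ⟨y, hy⟩))⟩⟩ (by
      rintro a ⟨x, hx, ex⟩
      refine Subtype.ext ?_
      rw [SubgroupClass.coe_pow, show (a : G) = MulAut.conj g x from ex.symm, ← map_pow, hEe x hx, map_one]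
      rfl)
    rw [Nat.card_congr (subgroupOfEquivOfLe hle).toEquiv,
      Subgroup.card_map_of_injective (MulAut.conj g).injective] at h1
    norm_num at h1 hElt
    omega
  obtain ⟨V, hVS, hV, hV4⟩ := exists_four S.isPGroup' hrank
  have hinv : ∀ t ∈ (S : Subgroup G), orderOf t = 2 →
      centralizerPPrimeCore 2 t ≤ Wf V ∧
        ∃ A ≤ (S : Subgroup G), IsElementaryAbelian 2 A ∧ 8 ≤ Nat.card A ∧ t ∈ A := by
    intro t htS ht
    -- a four group containing `t`
    obtain ⟨U, hUS, hU, hU4, htU⟩ : ∃ U ≤ (S : Subgroup G), IsElementaryAbelian 2 U ∧ Nat.card U = 4 ∧ t ∈ U := by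
      obtain ⟨A, hAS, hA, hA8, hVA⟩ := exists_eight_above S h3 hS hVS hV hV4
      have hpt : IsElementaryAbelian 2 (zpowers t) := SolvSF.ea_of_comm
        (fun a ha b hb => by
          obtain ⟨i, rfl⟩ := mem_zpowers_iff.mp ha
          obtain ⟨j, rfl⟩ := mem_zpowers_iff.mp hb
          exact (Commute.zpow_zpow (Commute.refl t) i j).eq)
        fun a ha => by
          obtain ⟨i, rfl⟩ := mem_zpowers_iff.mp ha
          rw [← zpow_natCast, ← zpow_mul, mul_comm, zpow_mul, zpow_natCast, ← ht, pow_orderOf_eq_one, one_zpow]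
      obtain ⟨z, hzS, hz2, hzc⟩ := Comp.exists_central_in_normal (p := 2) S.isPGroup' (le_refl (S : Subgroup G))
        (fun s hs => Subgroup.le_normalizer hs) (fun e => by
          have := hV4 ▸ Subgroup.card_le_of_le (hVS.trans e.le)
          rw [Subgroup.card_bot] at this
          omega)
      obtain ⟨u, hu, hu1, hut⟩ : ∃ u ∈ (S : Subgroup G), u * u = 1 ∧ u ∉ zpowers t ∧ t * u = u * t := by
        by_cases hzt : z ∈ zpowers t
        · obtain ⟨v, hv, hvt⟩ := SetLike.not_le_iff_exists.mp (show ¬ V ≤ zpowers t from fun h => by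
            have := hV4 ▸ Subgroup.card_le_of_le h
            rw [Nat.card_zpowers, ht] at this
            omega)
          have htz : t = z := by
            rcases Subgroup.eq_bot_or_eq_top_of_prime_card ((zpowers z).subgroupOf (zpowers t))
              (hp := ⟨by rw [Nat.card_zpowers, ht]; exact Nat.prime_two⟩) with h | h
            · exfalso
              have h1 : (⟨z, hzt⟩ : zpowers t) = 1 :=
                Subgroup.mem_bot.mp (h.le (Subgroup.mem_subgroupOf.mpr (mem_zpowers z)))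
              rw [show z = 1 from congrArg Subtype.val h1, orderOf_one] at hz2
              omega
            · obtain ⟨i, hi⟩ := mem_zpowers_iff.mp (Subgroup.subgroupOf_eq_top.mp h (mem_zpowers t))
              rcases Int.even_or_odd i with ⟨j, rfl⟩ | ⟨j, rfl⟩
              · exfalso
                rw [← two_mul, zpow_mul, zpow_two, show z * z = 1 by rw [← pow_two, ← hz2, pow_orderOf_eq_one],
                  one_zpow] at hi
                rw [← hi, orderOf_one] at ht
                omega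
              · rw [zpow_add, zpow_mul, zpow_two, show z * z = 1 by rw [← pow_two, ← hz2, pow_orderOf_eq_one],
                  one_zpow, one_mul, zpow_one] at hi
                exact hi.symm
          exact ⟨v, hVS hv, by rw [← pow_two]; exact hV.2 v hv, hvt, by rw [htz]; exact (hzc v (hVS hv)).symm⟩
        · exact ⟨z, hzS, by rw [← pow_two, ← hz2, pow_orderOf_eq_one], hzt, hzc t htS⟩
      have hpu : IsElementaryAbelian 2 (zpowers u) := SolvSF.ea_of_comm
        (fun a ha b hb => by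
          obtain ⟨i, rfl⟩ := mem_zpowers_iff.mp ha
          obtain ⟨j, rfl⟩ := mem_zpowers_iff.mp hb
          exact (Commute.zpow_zpow (Commute.refl u) i j).eq)
        fun a ha => by
          obtain ⟨i, rfl⟩ := mem_zpowers_iff.mp ha
          rw [← zpow_natCast, ← zpow_mul, mul_comm, zpow_mul, zpow_natCast, pow_two, hu1, one_zpow]
      have hU := ea_sup hpt hpu fun a ha b hb => by
        obtain ⟨i, rfl⟩ := mem_zpowers_iff.mp ha
        obtain ⟨j, rfl⟩ := mem_zpowers_iff.mp hb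
        exact (Commute.zpow_zpow hut.2 i j).eq
      refine ⟨_, sup_le (zpowers_le.mpr htS) (zpowers_le.mpr hu), hU, ?_, mem_sup_left (mem_zpowers t)⟩
      have hgt : 2 < Nat.card ↥(zpowers t ⊔ zpowers u) := by
        refine lt_of_le_of_ne (by rw [← ht, ← Nat.card_zpowers]; exact Subgroup.card_le_of_le le_sup_left) fun e => ?_
        have h1 := Subgroup.eq_of_le_of_card_ge (le_sup_left : zpowers t ≤ zpowers t ⊔ zpowers u)
          (by rw [← e, Nat.card_zpowers, ht])
        exact hut.1 (h1 ▸ mem_sup_right (mem_zpowers u))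
      have hle : Nat.card ↥(zpowers t ⊔ zpowers u) ≤ 4 := by
        have h1 := Signalizer.card_sup_zpowers_le hU (le_sup_left (b := zpowers u))
          (mem_sup_right (mem_zpowers u) : u ∈ zpowers t ⊔ zpowers u)
        rw [Nat.card_zpowers, ht] at h1
        omega
      exact le_antisymm hle (four_le_of_two_lt (isPGroup_ea hU) hgt)
    obtain ⟨A, hAS, hA, hA8, hUA⟩ := exists_eight_above S h3 hS hUS hU hU4
    have ht1 : t ≠ 1 := fun e => by rw [e, orderOf_one] at ht; omega
    exact ⟨(core_le_Wf htU ht1).trans (hconst hUS hU hU4 hVS hV hV4).le, A, hAS, hA, hA8, hUA htU⟩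
  refine ⟨Wf V, ?_, fun B hBS hB => ?_, hinv⟩
  · obtain ⟨A, hAS, hA, hA8, hVA⟩ := exists_eight_above S h3 hS hVS hV hV4
    obtain ⟨hX, -⟩ := closure_spec (p := 2) hA (by simpa using hA8) (isSolvableSignalizerFunctor hcon hA)
    rw [Wf_eq hcon hA hA8 hVA hV4.ge]
    exact Nat.not_even_iff_odd.mp fun h => hX.2.1 (even_iff_two_dvd.mp h)
  · obtain ⟨U, hUB, hU, hU4⟩ := exists_four (S.isPGroup'.to_le hBS) hB
    refine le_antisymm ?_ (iSup_le fun b => ?_)
    · rw [hconst hVS hV hV4 (hUB.trans hBS) hU hU4]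
      exact iSup_le fun b => core_le_Wf (hUB b.2.1) b.2.2
    · have hbS := hBS b.2.1
      have hbp : IsPGroup 2 (zpowers (b : G)) := S.isPGroup'.to_le (Subgroup.zpowers_le.mpr hbS)
      obtain ⟨z, hzord⟩ := exists_prime_orderOf_dvd_card' (G := zpowers (b : G)) 2 (by
        obtain ⟨k, hk⟩ := IsPGroup.iff_card.mp hbp
        rw [hk]
        refine dvd_pow_self 2 fun e => b.2.2 ?_
        rw [e, pow_zero, Nat.card_zpowers, orderOf_eq_one_iff] at hk
        exact hk)
      have hz : orderOf (z : G) = 2 := by rwa [Subgroup.orderOf_coe]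
      exact (core_le_core hcon hbp hz z.2).trans (hinv _ (Subgroup.zpowers_le.mpr hbS z.2) hz).1

/-- In a group with a normal self-centralising rank one 2-subgroup an element of odd order moves only a quaternion
group of order eight, and then elementary abelian subgroups have order at most four. -/
theorem no_eight_over_q8 {X : Type u} [Group X] [Finite X] {P : Subgroup X} [P.Normal]
    (hC : centralizer (P : Set X) ≤ P) (e : P ≃* QuaternionGroup 2) {E : Subgroup X}
    (hE : IsElementaryAbelian 2 E) (hu : CfsgLib.Frob.UniqSub 2 P) : Nat.card E ≤ 4 := by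
  haveI := Fact.mk Nat.prime_two
  let Φ : X →* MulAut P := MulAut.conjNormal
  haveI hIn : ((P.map Φ : Subgroup (MulAut P))).Normal := ⟨by
    rintro _ ⟨q, hq, rfl⟩ σ
    refine ⟨(σ ⟨q, hq⟩ : P), (σ ⟨q, hq⟩).2, MulEquiv.ext fun x => ?_⟩
    show MulAut.conjNormal ((σ ⟨q, hq⟩ : P) : X) x = σ (MulAut.conjNormal q (σ⁻¹ x))
    have h1 : ∀ (r y : P), MulAut.conjNormal (r : X) y = r * y * r⁻¹ := fun r y => Subtype.ext (by
      simp [MulAut.conjNormal_apply])
    rw [h1, show MulAut.conjNormal q (σ⁻¹ x) = ⟨q, hq⟩ * σ⁻¹ x * (⟨q, hq⟩ : P)⁻¹ from h1 ⟨q, hq⟩ _, map_mul,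
      map_mul, map_inv, MulAut.apply_inv_self]⟩
  let ψ : E →* MulAut P ⧸ P.map Φ := (QuotientGroup.mk' _).comp (Φ.comp E.subtype)
  have hker : ∀ x : E, ψ x = 1 → (x : X) ∈ P := by
    intro x hx
    obtain ⟨q, hq, hqe⟩ := (QuotientGroup.eq_one_iff _).mp hx
    have hc : q⁻¹ * (x : X) ∈ centralizer (P : Set X) := Subgroup.mem_centralizer_iff.mpr fun y hy => by
      have h1 : Φ q ⟨y, hy⟩ = Φ (x : X) ⟨y, hy⟩ := by rw [hqe]; rfl
      have h2 : q * y * q⁻¹ = (x : X) * y * (x : X)⁻¹ := by simpa [Φ, MulAut.conjNormal_apply] using congrArg Subtype.val h1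
      calc y * (q⁻¹ * (x : X)) = q⁻¹ * (q * y * q⁻¹) * (x : X) := by group
        _ = _ := by rw [h2]; group
    simpa using P.mul_mem hq (hC hc)
  have hk2 : Nat.card ψ.ker ≤ 2 := by
    by_contra h
    push Not at h
    obtain ⟨a, ha⟩ := exists_prime_orderOf_dvd_card' (G := ψ.ker) 2 (by
      obtain ⟨k, hk⟩ := ((isPGroup_ea hE).to_subgroup ψ.ker).exists_card_eq
      rw [hk] at h ⊢
      exact dvd_pow_self 2 fun e => by rw [e] at h; omega)
    obtain ⟨b, hb1, hba⟩ : ∃ b : ψ.ker, b ≠ 1 ∧ b ≠ a := by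
      by_contra hall
      push Not at hall
      have : Nat.card ψ.ker ≤ 2 := by
        classical
        haveI := Fintype.ofFinite ψ.ker
        rw [Nat.card_eq_fintype_card, ← Finset.card_univ]
        refine (Finset.card_le_card (t := {1, a}) fun b _ => ?_).trans Finset.card_le_two
        by_cases hb : b = 1
        · simp [hb]
        · simp [hall b hb]
      omega
    have hord : ∀ c : ψ.ker, c ≠ 1 → Nat.card (zpowers (⟨((c : E) : X), hker c c.2⟩ : P)) = 2 := fun c hc => by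
      rw [Nat.card_zpowers, Subgroup.orderOf_mk]
      refine orderOf_eq_prime (hE.2 _ (c : E).2) fun e => hc ?_
      exact Subtype.ext (Subtype.ext e)
    have heq := hu _ _ (hord a (fun e => by rw [e, orderOf_one] at ha; omega)) (hord b hb1)
    obtain ⟨i, hi⟩ := mem_zpowers_iff.mp (heq ▸ mem_zpowers (⟨((b : E) : X), hker b b.2⟩ : P))
    have hi' : ((a : E) : X) ^ i = ((b : E) : X) := congrArg Subtype.val hi
    rcases Int.even_or_odd i with ⟨j, rfl⟩ | ⟨j, rfl⟩
    · rw [← two_mul, zpow_mul, zpow_two, show ((a : E) : X) * ((a : E) : X) = 1 from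
        pow_two ((a : E) : X) ▸ hE.2 _ (a : E).2, one_zpow] at hi'
      exact hb1 (Subtype.ext (Subtype.ext hi'.symm))
    · rw [zpow_add, zpow_mul, zpow_two, show ((a : E) : X) * ((a : E) : X) = 1 from
        pow_two ((a : E) : X) ▸ hE.2 _ (a : E).2, one_zpow, one_mul, zpow_one] at hi'
      exact hba (Subtype.ext (Subtype.ext hi'.symm))
  have h6 : Nat.card (MulAut P ⧸ P.map Φ) ∣ 6 := by
    rw [← Subgroup.index_eq_card]
    have h24 : Nat.card (MulAut P) ∣ 24 := by
      rw [Nat.card_congr (MulAut.congr e).toEquiv]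
      exact CfsgLib.LocalFusion.q8_card_aut_dvd
    have h4 : Nat.card (P.map Φ) = 4 := by
      let f : P →* MulAut P := Φ.comp P.subtype
      have hr : f.range = P.map Φ := by rw [MonoidHom.range_comp, Subgroup.range_subtype]
      have hk : f.ker = Subgroup.center P := by
        ext q
        rw [MonoidHom.mem_ker, Subgroup.mem_center_iff]
        refine ⟨fun h y => ?_, fun h => MulEquiv.ext fun y => Subtype.ext ?_⟩
        · have h1 := congrArg Subtype.val (DFunLike.congr_fun h y)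
          simp [f, Φ, MulAut.conjNormal_apply] at h1
          exact Subtype.ext (mul_inv_eq_iff_eq_mul.mp h1).symm
        · simp [f, Φ, MulAut.conjNormal_apply]
          exact mul_inv_eq_iff_eq_mul.mpr (congrArg Subtype.val (h y)).symm
      rw [← hr, ← Subgroup.index_ker, hk]
      exact CfsgLib.LocalFusion.q8_center_index e
    have h5 := (P.map Φ).card_mul_index
    rw [h4] at h5
    exact (Nat.mul_dvd_mul_iff_left (show 0 < 4 by norm_num)).mp (h5 ▸ h24 : 4 * _ ∣ 4 * 6)
  have hr2 : Nat.card ψ.range ≤ 2 := by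
    obtain ⟨k, hk⟩ := (isPGroup_ea hE).exists_card_eq
    have h1 : Nat.card ψ.range ∣ 2 ^ k := hk ▸ Subgroup.card_range_dvd ψ
    have h2 : Nat.card ψ.range ∣ 6 := (Subgroup.card_subgroup_dvd_card _).trans h6
    have h3 : Nat.card ψ.range ∣ Nat.gcd (2 ^ k) 6 := Nat.dvd_gcd h1 h2
    have h4 : Nat.gcd (2 ^ k) 6 ∣ 2 := by
      rw [show (6 : ℕ) = 2 * 3 from rfl, Nat.Coprime.gcd_mul_right_cancel_right 2 (Nat.Coprime.pow_right k (by norm_num))]
      exact Nat.gcd_dvd_right _ _
    exact Nat.le_of_dvd (by norm_num) (h3.trans h4)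
  have hmul : Nat.card ψ.range * Nat.card ψ.ker = Nat.card E := by
    rw [← Subgroup.index_ker, Subgroup.index_mul_card]
  rw [← hmul]
  exact (Nat.mul_le_mul hr2 hk2).trans (le_refl 4)

/-- The centraliser of an involution normalises the odd subgroup. -/
theorem centralizer_le_of_core (hcon : Hyp G) {M : Subgroup G}
    (hmove : ∀ (A : Subgroup G) (g : G), IsElementaryAbelian 2 A → Nat.card A = 4 → A ≤ M →
      (∀ a ∈ A, g * a * g⁻¹ ∈ M) → g ∈ M)
    {t : G} (ht : orderOf t = 2) (hO : centralizerPPrimeCore 2 t ≤ M) {E : Subgroup G}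
    (hE : IsElementaryAbelian 2 E) (hE8 : 8 ≤ Nat.card E) (hEM : E ≤ M) (htE : t ∈ E) :
    centralizer ({t} : Set G) ≤ M := by
  classical
  haveI := Fact.mk Nat.prime_two
  set L := centralizer ({t} : Set G)
  have hEL : E ≤ L := fun x hx => mem_centralizer_singleton_iff.mpr (ea_comm hE hx htE)
  have hEp : IsPGroup 2 ↥(E.subgroupOf L) := (isPGroup_ea hE).of_equiv (subgroupOfEquivOfLe hEL).symm
  obtain ⟨TL, hTL⟩ := hEp.exists_le_sylow
  set T := (TL : Subgroup L).map L.subtype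
  have hT2 : IsPGroup 2 T := TL.isPGroup'.map _
  have hET : E ≤ T := fun x hx => ⟨⟨x, hEL hx⟩, hTL hx, rfl⟩
  have hN : ∀ Q : Subgroup G, Q ≤ M → IsPGroup 2 Q → ¬ PRankLE 2 1 Q → normalizer (Q : Set G) ≤ M := by
    intro Q hQM hQp hQ g hg
    obtain ⟨A, hAQ, hA, hA4⟩ := exists_four hQp hQ
    exact hmove A g hA hA4 (hAQ.trans hQM) fun a ha => hQM ((mem_normalizer_iff.mp hg a).mp (hAQ ha))
  have hrk : ∀ {Q : Subgroup G}, E ≤ Q → ¬ PRankLE 2 1 Q := fun {Q} hle h => by
    have h1 := h (E.subgroupOf Q) ⟨⟨fun a b => Subtype.ext (Subtype.ext (ea_comm hE a.2 b.2))⟩⟩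
      fun a ha => Subtype.ext (hE.2 _ ha)
    rw [Nat.card_congr (subgroupOfEquivOfLe hle).toEquiv] at h1
    omega
  have hTM : T ≤ M := by
    by_contra hne
    have hlt : T ⊓ M < T := lt_of_le_of_ne inf_le_left fun e => hne (e ▸ inf_le_right)
    have h2 := hN (T ⊓ M) inf_le_right (hT2.to_le inf_le_left) (hrk (le_inf hET hEM))
    exact (StrongEmbedS4.exists_bigger hT2 hlt).not_ge (le_inf inf_le_left (inf_le_right.trans h2))
  set O := pPrimeCore 2 L
  set π := QuotientGroup.mk' O with hπ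
  set K := pPrimePCore 2 L with hK
  haveI : K.Normal := by rw [hK, pPrimePCore]; infer_instance
  obtain ⟨P, hP⟩ := PLocal.exists_sylow_inf TL K
  have hfr := Sylow.normalizer_sup_eq_top P
  rw [hP] at hfr
  set Qs := (TL : Subgroup L) ⊓ K
  set Q := Qs.map L.subtype
  have hQT : Q ≤ T := by
    rintro _ ⟨q, hq, rfl⟩
    exact ⟨q, hq.1, rfl⟩
  have hOM : O.map L.subtype ≤ M := hO
  have hKO : ∀ k ∈ K, ∃ o ∈ O, ∃ q ∈ Qs, k = o * q := by
    intro k hk
    have hc : pCore 2 (L ⧸ O) ≤ (TL : Subgroup L).map π := by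
      rw [← Sylow.coe_mapSurjective (QuotientGroup.mk'_surjective O) TL]
      exact pCore_le_sylow _
    obtain ⟨q, hq, he⟩ := hc hk
    have ho : k * q⁻¹ ∈ O := (QuotientGroup.eq_one_iff _).1 (show π (k * q⁻¹) = 1 by
      rw [map_mul, map_inv, he]; exact mul_inv_cancel _)
    have hqK : q ∈ K := by
      show π q ∈ pCore 2 (L ⧸ O)
      rw [he]; exact hk
    exact ⟨k * q⁻¹, ho, q, ⟨hq, hqK⟩, by group⟩
  have hKM : K.map L.subtype ≤ M := by
    rintro _ ⟨k, hk, rfl⟩
    obtain ⟨o, ho, q, hq, rfl⟩ := hKO k hk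
    exact mul_mem (hOM ⟨o, ho, rfl⟩) (hTM (hQT ⟨q, hq, rfl⟩))
  by_cases hQr : PRankLE 2 1 Q
  swap
  · intro g hg
    obtain ⟨n, hn, k, hk, he⟩ := Subgroup.mem_sup_of_normal_right.1 (hfr ▸ mem_top (⟨g, hg⟩ : L) :
      (⟨g, hg⟩ : L) ∈ normalizer (Qs : Set L) ⊔ K)
    rw [show g = (n : G) * k from congrArg Subtype.val he.symm]
    exact mul_mem (hN Q (hQT.trans hTM) (hT2.to_le hQT) hQr (Subgroup.le_normalizer_map L.subtype ⟨n, hn, rfl⟩))
      (hKM ⟨k, hk, rfl⟩)
  have hQ2 : IsPGroup 2 Q := hT2.to_le hQT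
  have hu : CfsgLib.Frob.UniqSub 2 Q := by
    intro A B hA hB
    by_contra hne
    obtain ⟨a, ha⟩ := exists_prime_orderOf_dvd_card' (G := A) 2 (dvd_of_eq hA.symm)
    obtain ⟨b, hb⟩ := exists_prime_orderOf_dvd_card' (G := B) 2 (dvd_of_eq hB.symm)
    have hgen : ∀ (C : Subgroup Q) (c : C), Nat.card C = 2 → orderOf c = 2 → zpowers (c : Q) = C := fun C c hC hc =>
      Subgroup.eq_of_le_of_card_ge (zpowers_le.mpr c.2) (by rw [Nat.card_zpowers, Subgroup.orderOf_coe, hc]; exact hC.le)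
    haveI : Nontrivial Q := ⟨⟨(a : Q), 1, fun e => by
      rw [← Subgroup.orderOf_coe, e, orderOf_one] at ha; omega⟩⟩
    haveI := hQ2.center_nontrivial
    obtain ⟨z, hz⟩ := exists_prime_orderOf_dvd_card' (G := Subgroup.center Q) 2 (by
      obtain ⟨m, hm⟩ := (hQ2.to_subgroup (Subgroup.center Q)).exists_card_eq
      rw [hm]
      exact dvd_pow_self 2 fun e => by
        rw [e, pow_zero] at hm; exact (Finite.one_lt_card (α := Subgroup.center Q)).ne' hm)
    have key : ∀ (C : Subgroup Q) (c : C), Nat.card C = 2 → orderOf c = 2 → (c : Q) = (z : Q) := by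
      intro C c hC hc
      by_contra hcz
      have hcc : Commute (c : Q) (z : Q) := Subgroup.mem_center_iff.mp z.2 c
      obtain ⟨hc', hz'⟩ : (c : Q) * c = 1 ∧ (z : Q) * z = 1 := ⟨by
        rw [← pow_two, ← hc, ← Subgroup.orderOf_coe, pow_orderOf_eq_one], by
        rw [← pow_two, ← hz, ← Subgroup.orderOf_coe, pow_orderOf_eq_one]⟩
      have hk := AlmostCyclic.isKleinFour_four (t := (c : Q)) (x := (z : Q))
        ((Subgroup.orderOf_coe c).trans hc) ((Subgroup.orderOf_coe z).trans hz) hcc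
      obtain ⟨he, h4⟩ := ea_of_klein (hk hcz)
      have h1 := hQr _ ⟨⟨fun a b => Subtype.ext (ea_comm he a.2 b.2)⟩⟩ fun a ha => he.2 a ha
      omega
    exact hne (by rw [← hgen A a hA ha, ← hgen B b hB hb, key A a hA ha, key B b hB hb])
  have hcon' : centralizer (pCore 2 (L ⧸ O) : Set (L ⧸ O)) ≤ pCore 2 (L ⧸ O) :=
    CfsgLib.ClassTwoSylow.centralizer_quotient_le (hcon t ht)
  have hmapQ : ∀ w ∈ pCore 2 (L ⧸ O), ∃ q ∈ Qs, π q = w := by
    intro w hw
    obtain ⟨w, rfl⟩ := QuotientGroup.mk'_surjective O w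
    obtain ⟨o, ho, q, hq, rfl⟩ := hKO w hw
    exact ⟨q, hq, by rw [map_mul, show π o = 1 from (QuotientGroup.eq_one_iff o).2 ho, one_mul]⟩
  have hodd : ∀ g : L, g ∈ normalizer (Qs : Set L) → Odd (orderOf g) → (g : G) ∈ centralizer (Q : Set G) := by
    intro g hg hgo
    by_contra hgc
    obtain ⟨e⟩ := QuatSection.q8_of_moved hQ2 hu (g := (g : G)) (Subgroup.le_normalizer_map L.subtype ⟨g, hg, rfl⟩)
      hgc (by rwa [Subgroup.orderOf_coe])
    -- transfer to the quotient
    have hinj : ∀ q ∈ Qs, π q = 1 → q = 1 := fun q hq h1 => by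
      obtain ⟨k, hk⟩ := TL.isPGroup' ⟨q, hq.1⟩
      exact orderOf_eq_one_iff.1 (Nat.eq_one_of_dvd_coprimes
        ((Nat.coprime_two_left.mpr (CfsgLib.odd_card_oddCore (G := L))).pow_left k)
        (orderOf_dvd_of_pow_eq_one (congrArg Subtype.val hk))
        (Subgroup.orderOf_dvd_natCard _ ((QuotientGroup.eq_one_iff q).1 h1)))
    let f : Q →* pCore 2 (L ⧸ O) :=
      { toFun := fun x => ⟨π ⟨(x : G), (Subgroup.map_subtype_le _ x.2 :)⟩, by
          obtain ⟨q, hq, hqx⟩ := x.2
          have hq' : q = ⟨(x : G), (Subgroup.map_subtype_le _ x.2 :)⟩ := Subtype.ext hqx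
          rw [← hq']
          exact hq.2⟩
        map_one' := Subtype.ext (map_one π)
        map_mul' := fun x y => Subtype.ext (by
          show π _ = π _ * π _
          rw [← map_mul]
          rfl) }
    have hf : Function.Bijective f := by
      refine ⟨(injective_iff_map_eq_one f).2 fun x hx => ?_, fun w => ?_⟩
      · obtain ⟨q, hq, hqx⟩ := x.2
        have h1 : π q = 1 := by
          rw [show q = ⟨(x : G), (Subgroup.map_subtype_le _ x.2 :)⟩ from Subtype.ext hqx]
          exact congrArg Subtype.val hx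
        refine Subtype.ext ?_
        rw [← hqx, hinj q hq h1]
        rfl
      · obtain ⟨q, hq, hqw⟩ := hmapQ w w.2
        exact ⟨⟨(q : G), q, hq, rfl⟩, Subtype.ext hqw⟩
    have hE' : IsElementaryAbelian 2 ((E.subgroupOf L).map π) := by
      refine SolvSF.ea_of_comm ?_ ?_
      · rintro _ ⟨a, ha, rfl⟩ _ ⟨b, hb, rfl⟩
        rw [← map_mul, ← map_mul]
        exact congrArg π (Subtype.ext (ea_comm hE ha hb))
      · rintro _ ⟨a, ha, rfl⟩
        rw [← map_pow, show a ^ 2 = 1 from Subtype.ext (hE.2 _ ha), map_one]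
    have hcard : Nat.card ↥((E.subgroupOf L).map π) = Nat.card E := by
      rw [← Nat.card_congr (subgroupOfEquivOfLe hEL).toEquiv]
      have hinjE : Function.Injective (π.comp (E.subgroupOf L).subtype) :=
        (injective_iff_map_eq_one _).2 fun x hx => by
          have hxO : (x : L) ∈ O := (QuotientGroup.eq_one_iff _).1 hx
          exact orderOf_eq_one_iff.1 (Nat.eq_one_of_dvd_coprimes
            (Nat.coprime_two_left.mpr (CfsgLib.odd_card_oddCore (G := L)))
            (orderOf_dvd_of_pow_eq_one (Subtype.ext (Subtype.ext (hE.2 _ x.2))))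
            (Subgroup.orderOf_coe x ▸ Subgroup.orderOf_dvd_natCard _ hxO))
      rw [show (E.subgroupOf L).map π = (π.comp (E.subgroupOf L).subtype).range by
        rw [MonoidHom.range_comp, Subgroup.range_subtype]]
      exact (Nat.card_congr (MonoidHom.ofInjective hinjE).toEquiv).symm
    have eQ : Q ≃* pCore 2 (L ⧸ O) := MulEquiv.ofBijective f hf
    have := no_eight_over_q8 hcon' (eQ.symm.trans e) hE'
      (QuatSection.uniqSub_of_equiv eQ.symm hu)
    omega
  -- the quotient by the core is a 2-group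
  have hquot : IsPGroup 2 (L ⧸ O) := by
    intro y
    obtain ⟨l, rfl⟩ := QuotientGroup.mk'_surjective O y
    obtain ⟨n, hn, k, hk, rfl⟩ := Subgroup.mem_sup_of_normal_right.1 (hfr ▸ mem_top l :
      l ∈ normalizer (Qs : Set L) ⊔ K)
    obtain ⟨a, m, hm, he⟩ := Nat.exists_eq_pow_mul_and_not_dvd (orderOf_pos n).ne' 2 (by norm_num)
    have hno : Odd (orderOf (n ^ 2 ^ a)) := by
      rw [orderOf_pow' _ (pow_ne_zero a two_ne_zero), he, Nat.gcd_eq_right (Dvd.intro _ rfl),
        Nat.mul_div_cancel_left _ (Nat.two_pow_pos a)]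
      exact Nat.odd_iff.2 (by omega)
    have hc := hodd _ (pow_mem hn _) hno
    have hnc : π (n ^ 2 ^ a) ∈ centralizer (pCore 2 (L ⧸ O) : Set (L ⧸ O)) := by
      intro w hw
      obtain ⟨q, hq, rfl⟩ := hmapQ w hw
      rw [← map_mul, ← map_mul]
      exact congrArg π (Subtype.ext (hc _ ⟨q, hq, rfl⟩))
    obtain ⟨b, hb⟩ := CfsgLib.isPGroup_pCore (G := L ⧸ O) 2 ⟨_, hcon' hnc⟩
    have hone : π (n ^ 2 ^ a) = 1 := orderOf_eq_one_iff.1 (Nat.eq_one_of_dvd_coprimes
      ((Nat.coprime_two_right.2 hno).pow_right b) (orderOf_map_dvd π _)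
      (orderOf_dvd_of_pow_eq_one (congrArg Subtype.val hb)))
    have hk' : π k ∈ pCore 2 (L ⧸ O) := hk
    have hn2 : (QuotientGroup.mk' (pCore 2 (L ⧸ O)) (π (n * k))) ^ 2 ^ a = 1 := by
      rw [map_mul π, map_mul, show QuotientGroup.mk' (pCore 2 (L ⧸ O)) (π k) = 1 from
        (QuotientGroup.eq_one_iff _).2 hk', mul_one, ← map_pow, ← map_pow, hone, map_one]
    rw [← map_pow, QuotientGroup.mk'_apply, QuotientGroup.eq_one_iff] at hn2
    obtain ⟨c, hc2⟩ := CfsgLib.isPGroup_pCore (G := L ⧸ O) 2 ⟨_, hn2⟩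
    exact ⟨a + c, by rw [pow_add, pow_mul]; exact congrArg Subtype.val hc2⟩
  have hidx : (TL : Subgroup L).map π = ⊤ := by
    rw [← Sylow.coe_mapSurjective (QuotientGroup.mk'_surjective O) TL]
    exact ((TL.mapSurjective (QuotientGroup.mk'_surjective O)).3
      (Q := ⊤) (hquot.to_subgroup ⊤) le_top).symm
  intro g hg
  obtain ⟨s, hs, he⟩ := hidx.ge (mem_top (π ⟨g, hg⟩))
  have ho : (⟨g, hg⟩ : L) * s⁻¹ ∈ O := (QuotientGroup.eq_one_iff _).1 (show π ((⟨g, hg⟩ : L) * s⁻¹) = 1 by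
    rw [map_mul, map_inv, he, mul_inv_cancel])
  have h2 := mul_mem (hOM ⟨_, ho, rfl⟩) (hTM ⟨s, hs, rfl⟩)
  simpa using h2

/-- **Connected groups not of component type are of characteristic two type.** -/
theorem charTwoType_of_connected (h3 : ¬ PRankLE 2 2 G) (hO : oddCore G = ⊥) (hc : ¬ IsComponentType G)
    (S : Sylow 2 G) (hS : IsFourConnected (S : Subgroup G)) : IsCharacteristicTwoType G := by
  haveI := Fact.mk Nat.prime_two
  have hcon := hyp_of_not_componentType hc
  obtain ⟨W, hWodd, hW, hinv⟩ := exists_odd_connected S hcon h3 hS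
  obtain ⟨V, hVS, hV, hV4⟩ : ∃ V ≤ (S : Subgroup G), IsElementaryAbelian 2 V ∧ Nat.card V = 4 := by
    refine exists_four S.isPGroup' fun h => h3 fun A hA hA2 => ?_
    have hAe : IsElementaryAbelian 2 A :=
      SolvSF.ea_of_comm (fun a ha b hb => congrArg Subtype.val (hA.is_comm.comm ⟨a, ha⟩ ⟨b, hb⟩)) hA2
    obtain ⟨R, hR⟩ := (isPGroup_ea hAe).exists_le_sylow
    obtain ⟨e⟩ : Nonempty ((R : Subgroup G) ≃* (S : Subgroup G)) := ⟨Sylow.equiv R S⟩
    let f : A →* (S : Subgroup G) := e.toMonoidHom.comp (Subgroup.inclusion hR)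
    have hf : Function.Injective f := e.injective.comp (Subgroup.inclusion_injective hR)
    have h1 := h f.range ⟨⟨by
      rintro ⟨_, a, rfl⟩ ⟨_, b, rfl⟩
      exact Subtype.ext (by rw [Subgroup.coe_mul, Subgroup.coe_mul, ← map_mul, hA.is_comm.comm a b, map_mul])⟩⟩ (by
      rintro _ ⟨a, rfl⟩
      rw [← map_pow, show a ^ 2 = 1 from Subtype.ext (hA2 _ a.2), map_one])
    rw [← Nat.card_congr (MonoidHom.ofInjective hf).toEquiv] at h1
    norm_num at h1 ⊢
    omega
  have heven : Even (Nat.card G) := by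
    rw [even_iff_two_dvd]
    exact (dvd_trans (by rw [hV4]; norm_num) (Subgroup.card_subgroup_dvd_card V))
  have hinto : ∀ t : G, orderOf t = 2 → ∃ g : G, g * t * g⁻¹ ∈ (S : Subgroup G) := by
    intro t ht
    obtain ⟨Q, hQ⟩ := (IsPGroup.of_card (G := zpowers t) (n := 1)
      (by rw [Nat.card_zpowers, ht, pow_one])).exists_le_sylow
    obtain ⟨g, hg⟩ := MulAction.exists_smul_eq G Q S
    exact ⟨g, by rw [← hg]; exact ⟨t, hQ (mem_zpowers t), rfl⟩⟩
  have hcore : ∀ g t : G, (centralizerPPrimeCore 2 t).map (MulAut.conj g).toMonoidHom =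
      centralizerPPrimeCore 2 (g * t * g⁻¹) := fun g t => map_centralizerPPrimeCore' g t
  by_cases hW1 : W = ⊥
  · refine ⟨heven, fun T hT hT1 => ?_⟩
    refine (Comp.gfit_eq_pCore_iff 2).mp (Comp.charP_local 2 (fun t ht => ?_) T hT hT1)
    refine (Comp.gfit_eq_pCore_iff 2).mpr (CfsgLib.RadicalQuotient.centralizer_le (hcon t ht) ?_)
    obtain ⟨g, hg⟩ := hinto t ht
    have h1 : centralizerPPrimeCore 2 (g * t * g⁻¹) = ⊥ :=
      le_bot_iff.1 (hW1 ▸ (hinv _ hg (by rw [ZStar.orderOf_conj, ht])).1)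
    rw [← hcore, Subgroup.map_eq_bot_iff_of_injective _ (MulAut.conj g).injective] at h1
    exact (Subgroup.map_eq_bot_iff_of_injective _ (Subgroup.subtype_injective _)).1 h1
  exfalso
  set M := normalizer (W : Set G) with hMdef
  have hM : M ≠ ⊤ := fun e => hW1 (by
    haveI : W.Normal := normalizer_eq_top_iff.mp e
    exact le_bot_iff.mp (hO ▸ CfsgLib.le_oddCore hWodd))
  have hVr : ∀ {U : Subgroup G}, IsElementaryAbelian 2 U → Nat.card U = 4 → ¬ PRankLE 2 1 U := fun {U} hU hU4 h => by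
    have := h ⊤ ⟨⟨fun a b => Subtype.ext (Subtype.ext (ea_comm hU (a : U).2 (b : U).2))⟩⟩
      fun a _ => Subtype.ext (hU.2 _ a.2)
    rw [Subgroup.card_top, hU4] at this
    norm_num at this
  have hSM : (S : Subgroup G) ≤ M := by
    intro s hs
    have hr : ¬ PRankLE 2 1 ↥(S : Subgroup G) := fun h => by
      have h1 := h (V.subgroupOf _) ⟨⟨fun a b => Subtype.ext (Subtype.ext (ea_comm hV a.2 b.2))⟩⟩
        fun a ha => Subtype.ext (hV.2 _ ha)
      rw [Nat.card_congr (subgroupOfEquivOfLe hVS).toEquiv, hV4] at h1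
      norm_num at h1
    have hW' := hW _ le_rfl hr
    rw [hMdef, hW']
    exact normalizer_le_normalizer_Wf _ (Subgroup.le_normalizer hs)
  have hWM : W ≤ M := Subgroup.le_normalizer
  have hintoM : ∀ Q : Subgroup G, IsPGroup 2 Q → Q ≤ M → ∃ m ∈ M, ∀ q ∈ Q, m * q * m⁻¹ ∈ (S : Subgroup G) := by
    intro Q hQ hQM
    obtain ⟨Q', hQ'⟩ := (hQ.comap_of_injective M.subtype M.subtype_injective).exists_le_sylow (p := 2)
    obtain ⟨m, hm⟩ := MulAction.exists_smul_eq M Q' (S.subtype hSM)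
    refine ⟨m, m.2, fun q hq => ?_⟩
    have h1 : m * ⟨q, hQM hq⟩ * m⁻¹ ∈ ((S.subtype hSM : Sylow 2 M) : Subgroup M) := by
      rw [← hm]
      exact ⟨⟨q, hQM hq⟩, hQ' hq, rfl⟩
    exact h1
  have hmove : ∀ (A : Subgroup G) (g : G), IsElementaryAbelian 2 A → Nat.card A = 4 → A ≤ M →
      (∀ a ∈ A, g * a * g⁻¹ ∈ M) → g ∈ M := by
    intro A g hA hA4 hAM hg
    obtain ⟨m, hm, hmS⟩ := hintoM A (isPGroup_ea hA) hAM
    have hA' : IsElementaryAbelian 2 (A.map (MulAut.conj g).toMonoidHom) := by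
      refine SolvSF.ea_of_comm ?_ ?_
      · rintro _ ⟨a, ha, rfl⟩ _ ⟨b, hb, rfl⟩
        rw [← map_mul, ea_comm hA ha hb, map_mul]
      · rintro _ ⟨a, ha, rfl⟩
        rw [← map_pow, hA.2 a ha, map_one]
    obtain ⟨m', hm', hmS'⟩ := hintoM _ (isPGroup_ea hA') (by rintro _ ⟨a, ha, rfl⟩; exact hg a ha)
    set A1 := A.map (MulAut.conj m).toMonoidHom
    set A2 := A1.map (MulAut.conj (m' * g * m⁻¹)).toMonoidHom
    have hA1S : A1 ≤ (S : Subgroup G) := by rintro _ ⟨a, ha, rfl⟩; exact hmS a ha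
    have hA2S : A2 ≤ (S : Subgroup G) := by
      rintro _ ⟨_, ⟨a, ha, rfl⟩, rfl⟩
      have := hmS' _ ⟨a, ha, rfl⟩
      simpa [mul_assoc] using this
    have hr : ∀ (x : G) {U : Subgroup G}, IsElementaryAbelian 2 U → Nat.card U = 4 →
        IsElementaryAbelian 2 (U.map (MulAut.conj x).toMonoidHom) ∧
          Nat.card ↥(U.map (MulAut.conj x).toMonoidHom) = 4 := fun x U hU hU4 => by
      refine ⟨SolvSF.ea_of_comm ?_ ?_, by rw [Subgroup.card_map_of_injective (MulAut.conj x).injective, hU4]⟩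
      · rintro _ ⟨a, ha, rfl⟩ _ ⟨b, hb, rfl⟩
        rw [← map_mul, ea_comm hU ha hb, map_mul]
      · rintro _ ⟨a, ha, rfl⟩
        rw [← map_pow, hU.2 a ha, map_one]
    obtain ⟨hA1, hA14⟩ := hr m hA hA4
    obtain ⟨hA2, hA24⟩ := hr (m' * g * m⁻¹) hA1 hA14
    have h1 : W.map (MulAut.conj (m' * g * m⁻¹)).toMonoidHom ≤ W := by
      conv_lhs => rw [hW A1 hA1S (hVr hA1 hA14)]
      rw [hW A2 hA2S (hVr hA2 hA24)]
      exact map_Wf_le _ fun x hx => ⟨x, hx, rfl⟩
    have hx : m' * g * m⁻¹ ∈ M := Comp.mem_normalizer_of_maps fun w hw => h1 ⟨w, hw, rfl⟩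
    simpa [mul_assoc] using mul_mem (mul_mem (inv_mem hm') hx) hm
  have habove : ∀ t ∈ M, orderOf t = 2 → centralizer ({t} : Set G) ≤ M ∧
      ∃ E, IsElementaryAbelian 2 E ∧ 8 ≤ Nat.card E ∧ E ≤ M ∧ t ∈ E := by
    intro t htM ht
    obtain ⟨m, hm, hmS⟩ := hintoM (zpowers t) (IsPGroup.of_card (n := 1) (by rw [Nat.card_zpowers, ht, pow_one]))
      (zpowers_le.mpr htM)
    obtain ⟨hc1, A, hAS, hA, hA8, htA⟩ := hinv _ (hmS t (mem_zpowers t)) (by rw [ZStar.orderOf_conj, ht])
    obtain ⟨E, hEdef⟩ : ∃ E, E = A.map (MulAut.conj m⁻¹).toMonoidHom := ⟨_, rfl⟩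
    have hE : IsElementaryAbelian 2 E := by
      rw [hEdef]
      refine SolvSF.ea_of_comm ?_ ?_
      · rintro _ ⟨a, ha, rfl⟩ _ ⟨b, hb, rfl⟩
        rw [← map_mul, ea_comm hA ha hb, map_mul]
      · rintro _ ⟨a, ha, rfl⟩
        rw [← map_pow, hA.2 a ha, map_one]
    have hE8 : 8 ≤ Nat.card E := by
      rw [hEdef, Subgroup.card_map_of_injective (MulAut.conj m⁻¹).injective]
      exact hA8
    have hEM : E ≤ M := by
      rw [hEdef]
      rintro _ ⟨a, ha, rfl⟩
      exact mul_mem (mul_mem (inv_mem hm) (hSM (hAS ha))) (inv_mem (inv_mem hm))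
    have htE : t ∈ E := hEdef ▸ ⟨m * t * m⁻¹, htA, by simp [mul_assoc]⟩
    have hcore1 : centralizerPPrimeCore 2 t ≤ M := by
      intro x hx
      have h1 : m * x * m⁻¹ ∈ W := hc1 ((hcore m t).le ⟨x, hx, rfl⟩)
      simpa [mul_assoc] using mul_mem (mul_mem (inv_mem hm) (hWM h1)) hm
    exact ⟨centralizer_le_of_core hcon hmove ht hcore1 hE hE8 hEM htE, E, hE, hE8, hEM, htE⟩
  have hse : IsStronglyEmbedded M := by
    refine ⟨hM, even_iff_two_dvd.mpr ((dvd_trans (by rw [hV4]; norm_num) (Subgroup.card_dvd_of_le (hVS.trans hSM)))), ?_⟩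
    intro g hg
    refine Nat.not_even_iff_odd.mp fun he => hg ?_
    obtain ⟨x, hx⟩ := exists_prime_orderOf_dvd_card' 2 (even_iff_two_dvd.mp he)
    rw [← Subgroup.orderOf_coe] at hx
    obtain ⟨-, E, hE, hE8, hEM, hxE⟩ := habove _ (Subgroup.mem_inf.mp x.2).1 hx
    obtain ⟨y, hy, hyx⟩ := (Subgroup.mem_inf.mp x.2).2
    have hy2 : orderOf y = 2 := by
      rw [← hx, ← hyx]
      exact ((MulEquiv.orderOf_eq (MulAut.conj g) y)).symm
    have hCy := (habove y hy hy2).1
    obtain ⟨A, hAE, hA, hA4⟩ := exists_four (isPGroup_ea hE) fun h => by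
      have := h ⊤ ⟨⟨fun a b => Subtype.ext (Subtype.ext (ea_comm hE (a : E).2 (b : E).2))⟩⟩
        fun a _ => Subtype.ext (hE.2 _ a.2)
      rw [Subgroup.card_top] at this
      norm_num at this
      omega
    refine inv_mem_iff.mp (hmove A g⁻¹ hA hA4 (hAE.trans hEM) fun a ha => hCy ?_)
    rw [mem_centralizer_singleton_iff]
    have h1 := ea_comm hE (hAE ha) hxE
    rw [← hyx] at h1
    simp only [MulEquiv.coe_toMonoidHom, MulAut.conj_apply] at h1
    calc g⁻¹ * a * g⁻¹⁻¹ * y = g⁻¹ * (a * (g * y * g⁻¹)) * g := by group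
      _ = g⁻¹ * (g * y * g⁻¹ * a) * g := by rw [h1]
      _ = _ := by group
  have h1221 := Bender.Assembly.oddCore_le Bender.Assembly.goodAll hse
  rw [hO, le_bot_iff, Subgroup.map_eq_bot_iff_of_injective _ M.subtype_injective] at h1221
  refine hW1 ?_
  haveI : (W.subgroupOf M).Normal :=
    (normal_subgroupOf_iff_le_normalizer hWM).mpr le_rfl
  have h2 : W.subgroupOf M ≤ oddCore ↥M := CfsgLib.le_oddCore (by
    rwa [Nat.card_congr (subgroupOfEquivOfLe hWM).toEquiv])
  rw [h1221, le_bot_iff, Subgroup.subgroupOf_eq_bot] at h2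
  exact h2.eq_bot_of_le hWM

end CfsgLib.TwoLocalSignalizer
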