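import Cfsg.Agent.Lib.CoprimeGen
import Cfsg.Agent.Lib.Elementary
import Cfsg.Agent.Lib.Basic
import Cfsg.Prelude.Def_CaseTheorems

/-!
An involution centralising a subgroup of index two of `O₂(Y)`, `C(O₂(Y)) ≤ O₂(Y)`, inverts no non-trivial odd subgroup
on which it induces a square.

Blueprint: `blueprint/S1296.md`, step 1.
-/

set_option autoImplicit false
set_option linter.unusedSectionVars false
set_option linter.style.haveILetI false

namespace CfsgLib.TwoLocalSignalizer

open Cfsg Subgroup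

/-- An inverted element of odd order moving a vector modulo a transvection. -/
theorem transvection {V : Type*} [Group V] (hsq : ∀ v : V, v * v = 1) {z k c : MulAut V} (D : Subgroup V)
    (hD : ∀ d ∈ D, z d = d) (hidx : ∀ v w : V, v ∉ D → w ∉ D → v * w ∈ D) (hk : Odd (orderOf k))
    (hzk : z * k * z⁻¹ = k⁻¹) (hzk' : z * (c * k * c⁻¹) * z⁻¹ = (c * k * c⁻¹)⁻¹)
    (hcomm : Commute k (c * k * c⁻¹)) (hc2 : c * c * k * (c * c)⁻¹ = k⁻¹) : k = 1 := by
  classical
  have hcom : ∀ u v : V, u * v = v * u := fun u v => by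
    have hi : ∀ x : V, x⁻¹ = x := fun x => inv_eq_of_mul_eq_one_right (hsq x)
    rw [← hi (u * v), mul_inv_rev, hi, hi]
  have hodd : ∀ {m : MulAut V}, Odd (orderOf m) → ∀ j : ℕ, m ^ (2 ^ j) = 1 → m = 1 := fun hm j he =>
    orderOf_eq_one_iff.mp (Nat.eq_one_of_dvd_coprimes
      (Nat.Coprime.pow_left j (Nat.coprime_two_left.mpr hm)) (orderOf_dvd_of_pow_eq_one he) dvd_rfl)
  by_cases hz : ∀ v, z v = v
  · have h1 : z = 1 := MulEquiv.ext hz
    rw [h1, one_mul, inv_one, mul_one] at hzk
    exact hodd hk 1 (by rw [pow_one, pow_two]; nth_rw 1 [hzk]; exact inv_mul_cancel k)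
  obtain ⟨v0, hv0⟩ := not_forall.mp hz
  have hv0D : v0 ∉ D := fun h => hv0 (hD v0 h)
  set a := v0 * z v0 with ha
  have ha1 : a ≠ 1 := fun e => hv0 (mul_left_cancel (e.trans (hsq v0).symm))
  have hzv : ∀ v, v ∉ D → z v = v * a := by
    intro v hv
    have h1 := hD _ (hidx v v0 hv hv0D)
    rw [map_mul] at h1
    calc z v = z v * z v0 * z v0 := by rw [mul_assoc, hsq, mul_one]
      _ = v * a := by rw [h1, ha, mul_assoc]
  have hz' : ∀ v, z v = v ∨ z v = v * a := fun v => by
    by_cases hv : v ∈ D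
    exacts [Or.inl (hD v hv), Or.inr (hzv v hv)]
  have hzs : ∀ v, z⁻¹ v = v ∨ z⁻¹ v = v * a := fun v => by
    rcases hz' (z⁻¹ v) with h | h <;> rw [MulAut.apply_inv_self] at h
    · exact Or.inl h.symm
    · right; nth_rw 2 [h]; rw [mul_assoc, hsq, mul_one]
  -- the square of an inverted element moves little
  have hsqmove : ∀ {m : MulAut V}, z * m * z⁻¹ = m⁻¹ → ∀ v,
      v * (m * m) v = 1 ∨ v * (m * m) v = a ∨ v * (m * m) v = m a ∨ v * (m * m) v = a * m a := by
    intro m hm v
    have e : m * m = m * z * m⁻¹ * z⁻¹ := by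
      have h1 : z * m⁻¹ * z⁻¹ = m := by
        have h2 := congrArg Inv.inv hm
        rw [inv_inv, mul_inv_rev, mul_inv_rev, inv_inv, ← mul_assoc] at h2
        exact h2
      rw [mul_assoc m z, mul_assoc m, h1]
    rw [e]
    simp only [MulAut.mul_apply]
    rcases hz' (m⁻¹ (z⁻¹ v)) with h | h <;> rw [h] <;>
      simp only [map_mul, MulAut.apply_inv_self] <;> rcases hzs v with h' | h' <;> rw [h']
    · exact Or.inl (hsq v)
    · exact Or.inr (Or.inl (by rw [← mul_assoc, hsq, one_mul]))
    · exact Or.inr (Or.inr (Or.inl (by rw [← mul_assoc, hsq, one_mul])))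
    · exact Or.inr (Or.inr (Or.inr (by rw [← mul_assoc, ← mul_assoc, hsq, one_mul])))
  -- an inverted element fixing `a` is trivial
  have hfix : ∀ {m : MulAut V}, z * m * z⁻¹ = m⁻¹ → Odd (orderOf m) → m a = a → m = 1 := by
    intro m hm ho hma
    have h2 : ∀ v, (m * m) v = v ∨ (m * m) v = v * a := by
      intro v
      have key : ∀ w, v * (m * m) v = w → (m * m) v = v * w := fun w e => by
        rw [← e, ← mul_assoc, hsq, one_mul]
      rcases hsqmove hm v with e | e | e | e
      · exact Or.inl (by rw [key _ e, mul_one])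
      · exact Or.inr (key _ e)
      · exact Or.inr (by rw [key _ e, hma])
      · exact Or.inl (by rw [key _ e, hma, hsq, mul_one])
    refine hodd ho 2 (MulEquiv.ext fun v => ?_)
    have hmm : (m * m) a = a := by rw [MulAut.mul_apply, hma, hma]
    rw [show m ^ 2 ^ 2 = m * m * (m * m) by simp [pow_succ, mul_assoc], MulAut.mul_apply, MulAut.one_apply]
    rcases h2 v with h | h
    · rw [h, h]
    · rw [h, map_mul, hmm, h, mul_assoc, hsq, mul_one]
  have hpowfix : ∀ {m : MulAut V} {v : V}, m v = v → ∀ j : ℕ, (m ^ j) v = v := by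
    intro m v h j
    induction j with
    | zero => rfl
    | succ j ih => rw [pow_succ, MulAut.mul_apply, h, ih]
  -- some vector is moved by `a`
  by_cases hex : ∃ v1, v1 ∉ D ∧ k⁻¹ v1 ∈ D
  swap
  · push Not at hex
    have hpow : ∀ (j : ℕ) (v : V), v ∉ D → (k⁻¹ ^ j) v ∉ D := by
      intro j
      induction j with
      | zero => exact fun v hv => hv
      | succ j ih => intro v hv; rw [pow_succ, MulAut.mul_apply]; exact ih _ (hex v hv)
    have hn : 0 < orderOf k := hk.pos
    have hkD : ∀ v ∈ D, k⁻¹ v ∈ D := by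
      intro v hv
      by_contra h
      have h1 := hpow (orderOf k - 1) _ h
      rw [← MulAut.mul_apply, ← pow_succ, Nat.sub_add_cancel hn, inv_pow, pow_orderOf_eq_one, inv_one] at h1
      exact h1 hv
    have hfixD : ∀ d ∈ D, (k * k) d = d := by
      intro d hd
      have e : k * k = k * z * k⁻¹ * z⁻¹ := by
        have h1 : z * k⁻¹ * z⁻¹ = k := by
          have h2 := congrArg Inv.inv hzk
          rw [inv_inv, mul_inv_rev, mul_inv_rev, inv_inv, ← mul_assoc] at h2
          exact h2
        rw [mul_assoc k z, mul_assoc k, h1]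
      have hd' : z⁻¹ d = d := by
        nth_rw 1 [← hD d hd]
        exact MulAut.inv_apply_self _ _ _
      rw [e, MulAut.mul_apply, hd', MulAut.mul_apply, MulAut.mul_apply, hD _ (hkD d hd), MulAut.apply_inv_self]
    refine hodd hk 2 (MulEquiv.ext fun v => ?_)
    rw [show k ^ 2 ^ 2 = k * k * (k * k) by simp [pow_succ, mul_assoc], MulAut.mul_apply, MulAut.one_apply]
    by_cases hv : v ∈ D
    · rw [hfixD v hv, hfixD v hv]
    · have hkk : (k * k) v ∉ D := fun h => hv (by
        have h1 := hkD _ (hkD _ h)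
        rwa [MulAut.mul_apply, MulAut.inv_apply_self, MulAut.inv_apply_self] at h1)
      have h1 : v * (k * k) v ∈ D := hidx _ _ hv hkk
      calc (k * k) ((k * k) v) = (k * k) (v * (v * (k * k) v)) := by rw [← mul_assoc v v, hsq, one_mul]
        _ = (k * k) v * (v * (k * k) v) := by rw [map_mul, hfixD _ h1]
        _ = v := by rw [hcom, mul_assoc, hsq, mul_one]
  obtain ⟨v1, hv1, hv1k⟩ := hex
  have hmove : z v1 * (k * k) (z v1) = a := by
    have e : k * k = k * z * k⁻¹ * z⁻¹ := by
      have h1 : z * k⁻¹ * z⁻¹ = k := by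
        have h2 := congrArg Inv.inv hzk
        rw [inv_inv, mul_inv_rev, mul_inv_rev, inv_inv, ← mul_assoc] at h2
        exact h2
      rw [mul_assoc k z, mul_assoc k, h1]
    rw [e]
    simp only [MulAut.mul_apply, MulAut.inv_apply_self]
    rw [hD _ hv1k, MulAut.apply_inv_self, hzv v1 hv1, mul_assoc, hcom a, ← mul_assoc, hsq, one_mul]
  have hmem : ∀ {m : MulAut V}, Commute k m → m a = 1 ∨ m a = a ∨ m a = k a ∨ m a = a * k a := by
    intro m hm
    have h1 : m a = m (z v1) * (k * k) (m (z v1)) := by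
      nth_rw 1 [← hmove]
      rw [map_mul]
      congr 1
      exact congrArg (fun f : MulAut V => f (z v1)) ((hm.mul_left hm).eq).symm
    rw [h1]
    exact hsqmove hzk _
  have hka : k a = a → k = 1 := hfix hzk hk
  have hk2a : (k * k) a = a * k a := by
    rcases hmem (Commute.refl k |>.mul_right (Commute.refl k)) with h | h | h | h
    · exact absurd ((map_eq_one_iff _ (MulEquiv.injective _)).mp h) ha1
    · exfalso
      have h2 : k = 1 := hka (by
        obtain ⟨j, hj⟩ := hk
        have h3 := hpowfix h (j + 1)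
        rwa [← pow_two, ← pow_mul, show 2 * (j + 1) = orderOf k + 1 by omega, pow_succ, pow_orderOf_eq_one,
          one_mul] at h3)
      exact ha1 (by
        have := hmove
        rw [h2, one_mul, MulAut.one_apply, hsq] at this
        exact this.symm)
    · exfalso
      rw [MulAut.mul_apply] at h
      have h2 : k = 1 := hka (k.injective h)
      exact ha1 (by
        have := hmove
        rw [h2, one_mul, MulAut.one_apply, hsq] at this
        exact this.symm)
    · exact h
  have hk3 : k * (k * k) = 1 := by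
    refine hfix ?_ ?_ ?_
    · rw [show z * (k * (k * k)) * z⁻¹ = z * k * z⁻¹ * (z * k * z⁻¹) * (z * k * z⁻¹) by group, hzk]; group
    · refine hk.of_dvd_nat ?_
      rw [show k * (k * k) = k ^ 3 by simp [pow_succ, mul_assoc]]
      exact orderOf_pow_dvd 3
    · calc (k * (k * k)) a = k a * k (k a) := by rw [MulAut.mul_apply, hk2a, map_mul]
        _ = k a * (a * k a) := by rw [← hk2a]; rfl
        _ = a := by rw [hcom a, ← mul_assoc, hsq, one_mul]
  set k' := c * k * c⁻¹ with hk'
  obtain ⟨i, hi, hia⟩ : ∃ i, i < 3 ∧ k' a = (k ^ i) a := by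
    rcases hmem hcomm with h | h | h | h
    · exact absurd ((map_eq_one_iff _ (MulEquiv.injective _)).mp h) ha1
    · exact ⟨0, by norm_num, h⟩
    · exact ⟨1, by norm_num, by rw [pow_one]; exact h⟩
    · exact ⟨2, by norm_num, by rw [pow_two, hk2a]; exact h⟩
  have hk'o : Odd (orderOf k') := by
    rwa [hk', ← MulAut.conj_apply, MulEquiv.orderOf_eq]
  have heq : k' = k ^ i := by
    have hci : Commute (k ^ i)⁻¹ k' := (hcomm.pow_left i).inv_left
    have h : (k ^ i)⁻¹ * k' = 1 := by
      refine hfix ?_ ?_ ?_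
      · have e1 : z * (k ^ i)⁻¹ * z⁻¹ = k ^ i := by
          rw [← inv_pow, ← conj_pow, ← conj_inv, hzk, inv_inv]
        rw [conj_mul.symm, e1, hzk', mul_inv_rev, inv_inv]
        exact (hcomm.pow_left i).inv_right.eq
      · refine (Odd.mul ?_ hk'o).of_dvd_nat (hci.orderOf_mul_dvd_mul_orderOf)
        rw [orderOf_inv]
        exact hk.of_dvd_nat (orderOf_pow_dvd i)
      · rw [MulAut.mul_apply, hia, MulAut.inv_apply_self]
    exact (inv_mul_eq_one.mp h).symm
  have hkk : k ^ (i * i) = k⁻¹ := by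
    rw [← hc2, show c * c * k * (c * c)⁻¹ = c * k' * c⁻¹ by rw [hk']; group, heq, ← conj_pow, ← hk', heq,
      ← pow_mul]
  rcases i with - | - | - | i
  · rw [Nat.mul_zero, pow_zero] at hkk
    exact inv_eq_one.mp hkk.symm
  · rw [Nat.one_mul, pow_one] at hkk
    exact hodd hk 1 (by rw [pow_one, pow_two]; nth_rw 1 [hkk]; exact inv_mul_cancel k)
  · refine hodd hk 1 ?_
    have h4 : k ^ (2 * 2) = k := by
      rw [show 2 * 2 = 3 + 1 from rfl, pow_succ, show k ^ 3 = k * (k * k) by simp [pow_succ, mul_assoc], hk3, one_mul]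
    rw [h4] at hkk
    rw [pow_one, pow_two]; nth_rw 1 [hkk]; exact inv_mul_cancel k
  · omega

/-- The lemma in a constrained group. -/
theorem inverted_eq_bot {Y : Type*} [Group Y] [Finite Y]
    (hC : centralizer (pCore 2 Y : Set Y) ≤ pCore 2 Y) {z c : Y} (R : Subgroup Y)
    (hR : ∀ r ∈ R, Commute z r) (hidx : R.relIndex (pCore 2 Y) ≤ 2) {K : Subgroup Y} (hK : Odd (Nat.card K))
    (hinv : ∀ k ∈ K, z * k * z⁻¹ = k⁻¹) (hcK : ∀ k ∈ K, c * k * c⁻¹ ∈ K)
    (hc2 : ∀ k ∈ K, c * c * k * (c * c)⁻¹ = z * k * z⁻¹) : K = ⊥ := by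
  classical
  haveI := Fact.mk Nat.prime_two
  set P := pCore 2 Y with hP
  have hPp : IsPGroup 2 P := CfsgLib.isPGroup_pCore 2
  set F := frattini P with hF
  haveI : F.Characteristic := frattini_characteristic
  have hsq : ∀ v : P ⧸ F, v * v = 1 := fun v => by
    obtain ⟨x, rfl⟩ := QuotientGroup.mk_surjective v
    rw [← QuotientGroup.mk_mul, ← pow_two, QuotientGroup.eq_one_iff]
    exact CfsgLib.pow_mem_frattini_pGroup hPp x
  let act : Y →* MulAut (P ⧸ F) :=
    { toFun := fun x => QuotientGroup.congr F F (MulAut.conjNormal x)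
        (Subgroup.characteristic_iff_map_eq.mp inferInstance _)
      map_one' := by ext q; induction q using QuotientGroup.induction_on with | _ q => simp
      map_mul' := fun x y => by
        ext q
        induction q using QuotientGroup.induction_on with | _ q => exact congrArg QuotientGroup.mk (by rw [map_mul]; rfl) }
  have hKo : ∀ {k}, k ∈ K → Odd (orderOf k) := fun hk =>
    hK.of_dvd_nat (Subgroup.orderOf_dvd_natCard _ hk)
  have hcomm : ∀ k ∈ K, ∀ l ∈ K, Commute k l := fun k hk l hl => by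
    have e : (k * l)⁻¹ = k⁻¹ * l⁻¹ := by
      rw [← hinv _ (mul_mem hk hl), ← hinv k hk, ← hinv l hl]; group
    have := congrArg Inv.inv e
    rwa [inv_inv, mul_inv_rev, inv_inv, inv_inv] at this
  refine eq_bot_iff.mpr fun k hk => mem_bot.mpr ?_
  have hact : act k = 1 := by
    set D : Subgroup (P ⧸ F) := (R.subgroupOf P).map (QuotientGroup.mk' F) with hDdef
    have hD2 : D.index ≤ 2 := by
      refine le_trans (Nat.le_of_dvd (Nat.pos_of_ne_zero ?_) ?_) hidx
      · exact Subgroup.FiniteIndex.index_ne_zero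
      · exact Subgroup.index_map_dvd _ (QuotientGroup.mk'_surjective F)
    refine transvection hsq (z := act z) (c := act c) D ?_ ?_ ((hKo hk).of_dvd_nat (orderOf_map_dvd act k))
      ?_ ?_ ?_ ?_
    · rintro _ ⟨⟨r, hrP⟩, hr, rfl⟩
      refine congrArg QuotientGroup.mk (Subtype.ext ?_)
      show z * r * z⁻¹ = r
      exact mul_inv_eq_iff_eq_mul.mpr (hR r hr).eq
    · intro v w hv hw
      have h1 : D.index = 2 := by
        have h0 : D.index ≠ 0 := Subgroup.FiniteIndex.index_ne_zero
        have h1 : D.index ≠ 1 := fun e => hv (Subgroup.index_eq_one.mp e ▸ mem_top v)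
        omega
      exact (Subgroup.mul_mem_iff_of_index_two h1).mpr (iff_of_false hv hw)
    · rw [← map_inv act, ← map_inv act, ← map_mul, ← map_mul, hinv k hk]
    · rw [← map_inv act, ← map_inv act, ← map_mul, ← map_mul, ← map_mul, ← map_mul, hinv _ (hcK k hk), map_inv]
    · rw [← map_inv, ← map_mul, ← map_mul]
      exact (hcomm k hk _ (hcK k hk)).map act
    · rw [← map_mul, ← map_inv act, ← map_inv act, ← map_mul, ← map_mul, hc2 k hk, hinv k hk]
  have hcen : zpowers k ≤ centralizer (P : Set Y) := by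
    refine CfsgLib.centralize_of_trivial_mod_frattini ?_ ?_ ?_
    · rw [Subgroup.normalizer_eq_top]; exact le_top
    · obtain ⟨j, hj⟩ := IsPGroup.iff_card.mp (hPp.to_subgroup F)
      rw [hj, Nat.card_zpowers]
      exact (Nat.coprime_two_right.mpr (hKo hk)).pow_right j
    · intro x hx q hq
      have hxk : act x = 1 := by
        obtain ⟨i, rfl⟩ := mem_zpowers_iff.mp hx
        rw [map_zpow, hact, one_zpow]
      have := congrArg (fun σ : MulAut (P ⧸ F) => σ ((⟨q, hq⟩ : P) : P ⧸ F)) hxk
      have h2 : MulAut.conjNormal x (⟨q, hq⟩ : P) * (⟨q, hq⟩ : P)⁻¹ ∈ F := by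
        rw [← QuotientGroup.eq_one_iff, QuotientGroup.mk_mul, QuotientGroup.mk_inv, mul_inv_eq_one]
        exact this
      exact ⟨_, h2, rfl⟩
  have hkP : k ∈ P := hC (hcen (mem_zpowers k))
  obtain ⟨j, hj⟩ := hPp ⟨k, hkP⟩
  exact orderOf_eq_one_iff.mp (Nat.eq_one_of_dvd_coprimes
    (Nat.Coprime.pow_left j (Nat.coprime_two_left.mpr (hKo hk)))
    (orderOf_dvd_of_pow_eq_one (congrArg Subtype.val hj)) dvd_rfl)

end CfsgLib.TwoLocalSignalizer
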