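import Cfsg.Agent.Lib.TwoLocalSignalizer.Bad
import Cfsg.Agent.Lib.TwoLocalSignalizer.Transvection

/-!
A group of 2-rank at least three, without subgroup of index two, with trivial core and not of component type, has
characteristic two type: the odd subgroup of a normal four group of a Sylow subgroup has a strongly embedded
normaliser.

Blueprint: `blueprint/S1296.md`.
-/

set_option autoImplicit false
set_option linter.unusedSectionVars false
set_option linter.style.haveILetI false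

namespace CfsgLib.TwoLocalSignalizer

open Cfsg Subgroup CfsgLib.Signalizer CfsgLib.SolvSF

universe u

variable {G : Type u} [Group G] [Finite G]

theorem ea_map_conj {A : Subgroup G} (hA : IsElementaryAbelian 2 A) (g : G) :
    IsElementaryAbelian 2 (A.map (MulAut.conj g).toMonoidHom) ∧
      Nat.card ↥(A.map (MulAut.conj g).toMonoidHom) = Nat.card A := by
  refine ⟨SolvSF.ea_of_comm ?_ ?_, Subgroup.card_map_of_injective (MulAut.conj g).injective⟩
  · rintro _ ⟨a, ha, rfl⟩ _ ⟨b, hb, rfl⟩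
    rw [← map_mul, ea_comm hA ha hb, map_mul]
  · rintro _ ⟨a, ha, rfl⟩
    rw [← map_pow, hA.2 a ha, map_one]

theorem conj_into_sylow {M : Subgroup G} (S : Sylow 2 G) (hSM : (S : Subgroup G) ≤ M) {Q : Subgroup G}
    (hQ : IsPGroup 2 Q) (hQM : Q ≤ M) : ∃ m ∈ M, ∀ q ∈ Q, m * q * m⁻¹ ∈ (S : Subgroup G) := by
  haveI := Fact.mk Nat.prime_two
  obtain ⟨Q', hQ'⟩ := (hQ.comap_of_injective M.subtype M.subtype_injective).exists_le_sylow (p := 2)
  obtain ⟨m, hm⟩ := MulAction.exists_smul_eq M Q' (S.subtype hSM)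
  refine ⟨m, m.2, fun q hq => ?_⟩
  have h1 : m * ⟨q, hQM hq⟩ * m⁻¹ ∈ ((S.subtype hSM : Sylow 2 M) : Subgroup M) := by
    rw [← hm]
    exact ⟨⟨q, hQM hq⟩, hQ' hq, rfl⟩
  exact h1

namespace NormFour

variable {S : Sylow 2 G} {U : Subgroup G} {z u : G} (h : NormFour S U z u)
include h

/-- Elements moving a subgroup `E₈` of `M` into `M` lie in `M`. -/
theorem move_eight (hcon : Hyp G) {E : Subgroup G} (hE : IsElementaryAbelian 2 E) (hE8 : 8 ≤ Nat.card E)
    (hEM : E ≤ normalizer (Wf U : Set G)) {g : G}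
    (hg : ∀ a ∈ E, g * a * g⁻¹ ∈ normalizer (Wf U : Set G)) : g ∈ normalizer (Wf U : Set G) := by
  obtain ⟨m, hm, hmS⟩ := conj_into_sylow S h.S_le_normalizer (isPGroup_ea hE) hEM
  obtain ⟨hEg, hEg8⟩ := ea_map_conj hE g
  obtain ⟨m', hm', hmS'⟩ := conj_into_sylow S h.S_le_normalizer (isPGroup_ea hEg) (by
    rintro _ ⟨a, ha, rfl⟩; exact hg a ha)
  obtain ⟨hA, hA8⟩ := ea_map_conj hE m
  obtain ⟨hB, hB8⟩ := ea_map_conj hA (m' * g * m⁻¹)
  have hAS : E.map (MulAut.conj m).toMonoidHom ≤ (S : Subgroup G) := by rintro _ ⟨a, ha, rfl⟩; exact hmS a ha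
  have hBS : (E.map (MulAut.conj m).toMonoidHom).map (MulAut.conj (m' * g * m⁻¹)).toMonoidHom ≤ (S : Subgroup G) := by
    rintro _ ⟨_, ⟨a, ha, rfl⟩, rfl⟩
    have := hmS' _ ⟨a, ha, rfl⟩
    simpa [mul_assoc] using this
  have h1 : (Wf U).map (MulAut.conj (m' * g * m⁻¹)).toMonoidHom ≤ Wf U := by
    conv_lhs => rw [← (h.Wf_eight hcon hAS hA (hA8.symm ▸ hE8)).1]
    rw [← (h.Wf_eight hcon hBS hB ((hB8.trans hA8).symm ▸ hE8)).1]
    exact map_Wf_le _ fun x hx => ⟨x, hx, rfl⟩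
  have hx : m' * g * m⁻¹ ∈ normalizer (Wf U : Set G) :=
    Comp.mem_normalizer_of_maps fun w hw => h1 ⟨w, hw, rfl⟩
  simpa [mul_assoc] using mul_mem (mul_mem (inv_mem hm') hx) hm

variable {E : Subgroup G}

/-- At an involution whose centraliser has a large 2-subgroup centralising `z`, a root of `z` forces balance. -/
theorem core_of_root (hcon : Hyp G) (hES : E ≤ (S : Subgroup G)) (hE : IsElementaryAbelian 2 E)
    (hE8 : 8 ≤ Nat.card E) {x c : G} (hx : orderOf x = 2) (hxS : x ∈ (S : Subgroup G))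
    (hc : c ∈ (S : Subgroup G)) (hcx : c * x = x * c) (hcz : c * c = z) {R : Subgroup G} (hR : IsPGroup 2 R)
    (hRS : Nat.card (S : Subgroup G) ≤ 2 * Nat.card R) (hRx : R ≤ centralizer ({x} : Set G))
    (hRz : ∀ r ∈ R, r * z = z * r) :
    Wf U ⊓ centralizer ({x} : Set G) ≤ centralizerPPrimeCore 2 x := by
  classical
  haveI := Fact.mk Nat.prime_two
  set L := centralizer ({x} : Set G) with hL
  set O := pPrimeCore 2 L
  set π := QuotientGroup.mk' O with hπ
  have hzS : z ∈ (S : Subgroup G) := h.le h.z_mem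
  have hzL : z ∈ L := mem_centralizer_singleton_iff.mpr (h.z_cen x hxS).symm
  have hcL : c ∈ L := mem_centralizer_singleton_iff.mpr hcx
  set z' : L := ⟨z, hzL⟩
  set c' : L := ⟨c, hcL⟩
  have hzz : z' * z' = 1 := Subtype.ext h.z_two
  have hodd : Odd (Nat.card ↥(Wf U)) := h.odd_Wf hcon hES hE hE8
  obtain ⟨-, hzcore⟩ := h.good_core hcon (h.good_of_mem hcon hES hE hE8 h.z_mem) h.z_ne
  set K : Subgroup L := (Wf U).subgroupOf L with hK
  have hKodd : Odd (Nat.card K) := hodd.of_dvd_nat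
    (Subgroup.card_dvd_of_injective (L.subtype.subgroupComap (Wf U)) fun a b e =>
      Subtype.ext (Subtype.ext (congrArg (fun w : Wf U => (w : G)) e)))
  have hconjK : ∀ {s : L}, (s : G) ∈ (S : Subgroup G) → ∀ k ∈ K, s * k * s⁻¹ ∈ K := fun {s} hs k hk =>
    (mem_normalizer_iff.mp (h.S_le_normalizer hs) (k : G)).mp hk
  -- fixed points of `z` are in the core
  have hfix : ∀ k ∈ K, π (z' * k * z'⁻¹) = π k → π k = 1 := by
    intro k hk he
    set y := k⁻¹ * (z' * k * z'⁻¹) with hy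
    have hyO : π y = 1 := by rw [hy, map_mul, map_inv, he, inv_mul_cancel]
    have hyK : y ∈ K := mul_mem (inv_mem hk) (hconjK hzS k hk)
    have hyz : z' * y * z'⁻¹ = y⁻¹ := by
      have hzi : z'⁻¹ = z' := inv_eq_of_mul_eq_one_right hzz
      rw [hy, show z' * (k⁻¹ * (z' * k * z'⁻¹)) * z'⁻¹ = z' * k⁻¹ * z' * k * (z'⁻¹ * z'⁻¹) by group, hzi, hzz,
        mul_one]
      simp only [mul_inv_rev, inv_inv, hzi, mul_assoc]
    obtain ⟨j, hj⟩ : Odd (orderOf y) := hKodd.of_dvd_nat (Subgroup.orderOf_dvd_natCard _ hyK)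
    set y1 := y ^ (j + 1) with hy1
    have hy11 : y1 * y1 = y := by
      rw [hy1, ← pow_add, show j + 1 + (j + 1) = orderOf y + 1 by omega, pow_succ, pow_orderOf_eq_one, one_mul]
    have hk1 : z' * (k * y1) * z'⁻¹ = k * y1 := by
      have e1 : z' * y1 * z'⁻¹ = y1⁻¹ := by rw [hy1, ← conj_pow, hyz, inv_pow]
      calc z' * (k * y1) * z'⁻¹ = (z' * k * z'⁻¹) * (z' * y1 * z'⁻¹) := by group
        _ = k * (y1 * y1) * y1⁻¹ := by rw [e1, hy11, hy, mul_inv_cancel_left]
        _ = k * y1 := by group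
    have hcore : π (k * y1) = 1 := by
      have hmW : ((k * y1 : L) : G) ∈ Wf U := mul_mem hk (pow_mem hyK _ : y1 ∈ K)
      have hmz : ((k * y1 : L) : G) * z = z * ((k * y1 : L) : G) :=
        congrArg Subtype.val (mul_inv_eq_iff_eq_mul.mp hk1).symm
      have h1 := hzcore ⟨hmW, mem_centralizer_singleton_iff.mpr hmz⟩
      have h2 := CharTwoEarly.balance (hcon x hx) h.z_two (h.z_cen x hxS).symm h1
        (mem_centralizer_singleton_iff.mp (k * y1).2)
      obtain ⟨w, hw, hwe⟩ := h2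
      rw [show k * y1 = w from (Subtype.ext hwe).symm]
      exact (QuotientGroup.eq_one_iff w).mpr hw
    rwa [map_mul, show π y1 = 1 by rw [hy1, map_pow, hyO, one_pow], mul_one] at hcore
  set Kb := K.map π with hKb
  have hKbodd : Odd (Nat.card Kb) := hKodd.of_dvd_nat (Subgroup.card_map_dvd _ _)
  have hstab : ∀ {s : L}, (s : G) ∈ (S : Subgroup G) → ∀ k ∈ Kb, π s * k * (π s)⁻¹ ∈ Kb := by
    rintro s hs _ ⟨k, hk, rfl⟩
    exact ⟨s * k * s⁻¹, hconjK hs k hk, by rw [map_mul, map_mul, map_inv]⟩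
  have hinv : ∀ k ∈ Kb, π z' * k * (π z')⁻¹ = k⁻¹ := by
    have hzi : (π z')⁻¹ = π z' := inv_eq_of_mul_eq_one_right (by rw [← map_mul, hzz, map_one])
    let f : Kb → Kb := fun k => ⟨(k : L ⧸ O)⁻¹ * (π z' * k * (π z')⁻¹), mul_mem (inv_mem k.2) (hstab hzS k k.2)⟩
    have hinj : Function.Injective f := fun k l e => by
      have e1 : (k : L ⧸ O)⁻¹ * (π z' * k * (π z')⁻¹) = (l : L ⧸ O)⁻¹ * (π z' * l * (π z')⁻¹) := congrArg Subtype.val e
      obtain ⟨w, hw, hwe⟩ := mul_mem l.2 (inv_mem k.2)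
      have hw1 : π w = 1 := hfix w hw (by
        rw [map_mul, map_mul, map_inv, hwe,
          show π z' * ((l : L ⧸ O) * (k : L ⧸ O)⁻¹) * (π z')⁻¹ =
            (π z' * l * (π z')⁻¹) * (π z' * k * (π z')⁻¹)⁻¹ by group,
          show π z' * (k : L ⧸ O) * (π z')⁻¹ = k * ((k : L ⧸ O)⁻¹ * (π z' * k * (π z')⁻¹)) by group, e1]
        group)
      rw [hwe] at hw1
      exact (Subtype.ext (mul_inv_eq_one.mp hw1)).symm
    intro k hk
    obtain ⟨⟨l, hl⟩, he⟩ := (Finite.injective_iff_surjective.mp hinj) ⟨k, hk⟩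
    have he' : l⁻¹ * (π z' * l * (π z')⁻¹) = k := congrArg Subtype.val he
    rw [← he']
    have hz2 : π z' * π z' = 1 := by rw [← map_mul, hzz, map_one]
    calc π z' * (l⁻¹ * (π z' * l * (π z')⁻¹)) * (π z')⁻¹
        = π z' * l⁻¹ * π z' * l * ((π z')⁻¹ * (π z')⁻¹) := by group
      _ = π z' * l⁻¹ * (π z')⁻¹ * l := by rw [hzi, hz2, mul_one]
      _ = _ := by group
  have hcon' : centralizer (pCore 2 (L ⧸ O) : Set (L ⧸ O)) ≤ pCore 2 (L ⧸ O) :=
    CfsgLib.ClassTwoSylow.centralizer_quotient_le (hcon x hx)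
  set Rb := (R.subgroupOf L).map π with hRb
  have hidx : Rb.relIndex (pCore 2 (L ⧸ O)) ≤ 2 := by
    haveI : (pCore 2 (L ⧸ O)).Normal := inferInstance
    have hRp : IsPGroup 2 Rb := (hR.of_equiv (subgroupOfEquivOfLe hRx).symm).map _
    have hQ : IsPGroup 2 ↥(Rb ⊔ pCore 2 (L ⧸ O)) := hRp.to_sup_of_normal_right (CfsgLib.isPGroup_pCore 2)
    have hQS : Nat.card ↥(Rb ⊔ pCore 2 (L ⧸ O)) ≤ Nat.card (S : Subgroup G) := by
      obtain ⟨j, hj⟩ := hQ.exists_card_eq
      rw [hj]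
      refine Nat.le_of_dvd Nat.card_pos ?_
      have hd : 2 ^ j ∣ Nat.card G := hj ▸ ((Subgroup.card_subgroup_dvd_card _).trans
        ((Subgroup.card_dvd_of_surjective π (QuotientGroup.mk'_surjective O)).trans (Subgroup.card_subgroup_dvd_card L)))
      rw [← (S : Subgroup G).card_mul_index] at hd
      exact (Nat.Coprime.pow_left j ((Nat.Prime.coprime_iff_not_dvd Nat.prime_two).mpr S.not_dvd_index)).dvd_of_dvd_mul_right hd
    have hcard : Nat.card Rb = Nat.card R := by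
      have hinj : Function.Injective (π.comp (R.subgroupOf L).subtype) := (injective_iff_map_eq_one _).mpr fun r hr => by
        obtain ⟨k, hk⟩ := (hR.of_equiv (subgroupOfEquivOfLe hRx).symm) r
        exact orderOf_eq_one_iff.mp (Nat.eq_one_of_dvd_coprimes
          (Nat.Coprime.pow_left k (Nat.coprime_two_left.mpr (CfsgLib.odd_card_oddCore (G := L))))
          (orderOf_dvd_of_pow_eq_one hk)
          (Subgroup.orderOf_coe r ▸ Subgroup.orderOf_dvd_natCard _ ((QuotientGroup.eq_one_iff _).mp hr)))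
      rw [hRb, show (R.subgroupOf L).map π = (π.comp (R.subgroupOf L).subtype).range by
        rw [MonoidHom.range_comp, Subgroup.range_subtype], ← Nat.card_congr (MonoidHom.ofInjective hinj).toEquiv,
        Nat.card_congr (subgroupOfEquivOfLe hRx).toEquiv]
    have hmul : Nat.card Rb * Rb.relIndex (pCore 2 (L ⧸ O)) = Nat.card ↥(Rb ⊔ pCore 2 (L ⧸ O)) := by
      set P := pCore 2 (L ⧸ O)
      have hc : ∀ {A B : Subgroup (L ⧸ O)}, A ≤ B → Nat.card A * A.relIndex B = Nat.card B := fun {A B} hAB => by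
        rw [← Subgroup.relIndex_bot_left, ← Subgroup.relIndex_bot_left, Subgroup.relIndex_mul_relIndex ⊥ A B bot_le hAB]
      have e1 := hc (inf_le_left : Rb ⊓ P ≤ Rb)
      have e2 := hc (inf_le_right : Rb ⊓ P ≤ P)
      have e3 := hc (le_sup_right : P ≤ Rb ⊔ P)
      rw [Subgroup.inf_relIndex_left] at e1
      rw [Subgroup.inf_relIndex_right] at e2
      rw [Subgroup.relIndex_sup_right] at e3
      rw [← e1, ← e3, ← e2]
      ring
    refine Nat.le_of_mul_le_mul_left ?_ (Nat.card_pos (α := Rb))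
    rw [hmul, hcard]
    omega
  have hbot := inverted_eq_bot hcon' (z := π z') (c := π c') Rb (by
      rintro _ ⟨r, hr, rfl⟩
      exact ((show Commute r z' from Subtype.ext (hRz r hr)).map π).symm) hidx hKbodd hinv (hstab (s := c') hc)
    (fun k _ => by rw [← map_mul, show c' * c' = z' from Subtype.ext hcz])
  rintro w ⟨hwW, hwL⟩
  have h1 : π ⟨w, hwL⟩ = 1 :=
    mem_bot.mp (hbot ▸ (⟨⟨w, hwL⟩, hwW, rfl⟩ : π ⟨w, hwL⟩ ∈ Kb))
  exact ⟨⟨w, hwL⟩, (QuotientGroup.eq_one_iff _).mp h1, rfl⟩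

/-- The centraliser of `z` normalises the odd subgroup. -/
theorem cent_z_le (hcon : Hyp G) (hES : E ≤ (S : Subgroup G)) (hE : IsElementaryAbelian 2 E)
    (hE8 : 8 ≤ Nat.card E) : centralizer ({z} : Set G) ≤ normalizer (Wf U : Set G) := by
  classical
  haveI := Fact.mk Nat.prime_two
  set W := Wf U with hW
  set L := centralizer ({z} : Set G) with hL
  have hSL : (S : Subgroup G) ≤ L := fun s hs => mem_centralizer_singleton_iff.mpr (h.z_cen s hs)
  set TL : Sylow 2 L := S.subtype hSL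
  set O := pPrimeCore 2 L
  set π := QuotientGroup.mk' O with hπ
  set K := pPrimePCore 2 L with hK
  haveI : K.Normal := by rw [hK, pPrimePCore]; infer_instance
  obtain ⟨P, hP⟩ := PLocal.exists_sylow_inf TL K
  have hfr := Sylow.normalizer_sup_eq_top P
  rw [hP] at hfr
  set Qs := (TL : Subgroup L) ⊓ K
  have hzgood := h.good_of_mem hcon hES hE hE8 h.z_mem
  obtain ⟨hOW, hzcore⟩ := h.good_core hcon hzgood h.z_ne
  have hKO : ∀ k ∈ K, ∃ o ∈ O, ∃ q ∈ Qs, k = o * q := by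
    intro k hk
    have hc : pCore 2 (L ⧸ O) ≤ (TL : Subgroup L).map π := by
      rw [← Sylow.coe_mapSurjective (QuotientGroup.mk'_surjective O) TL]
      exact pCore_le_sylow _
    obtain ⟨q, hq, he⟩ := hc hk
    have ho : k * q⁻¹ ∈ O := (QuotientGroup.eq_one_iff _).1 (show π (k * q⁻¹) = 1 by
      rw [map_mul, map_inv, he]; exact mul_inv_cancel _)
    have hqK : q ∈ K := by
      show π q ∈ pCore 2 (L ⧸ O)
      rw [he]; exact hk
    exact ⟨k * q⁻¹, ho, q, ⟨hq, hqK⟩, by group⟩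
  have hKM : ∀ k ∈ K, (k : G) ∈ normalizer (W : Set G) := by
    intro k hk
    obtain ⟨o, ho, q, hq, rfl⟩ := hKO k hk
    rw [Subgroup.coe_mul]
    exact mul_mem (Subgroup.le_normalizer (hOW ⟨o, ho, rfl⟩)) (h.S_le_normalizer hq.1)
  -- `U` lies in the constrained radical
  have hcon' : centralizer (pCore 2 (L ⧸ O) : Set (L ⧸ O)) ≤ pCore 2 (L ⧸ O) :=
    CfsgLib.ClassTwoSylow.centralizer_quotient_le (hcon z h.orderOf_z)
  set z' : L := ⟨z, hSL (h.le h.z_mem)⟩ with hz'
  have hzc' : ∀ y : L, y * z' = z' * y := fun y => Subtype.ext (mem_centralizer_singleton_iff.mp y.2)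
  have hzb : ∀ y : L ⧸ O, y * π z' = π z' * y := fun y => by
    obtain ⟨y, rfl⟩ := QuotientGroup.mk'_surjective O y
    rw [← map_mul, hzc' y, map_mul]
  have hzb2 : π z' * π z' = 1 := by rw [← map_mul, show z' * z' = 1 from Subtype.ext h.z_two, map_one]
  let Dz : Subgroup (L ⧸ O) :=
    { carrier := {l | ∀ p ∈ pCore 2 (L ⧸ O), l * p * l⁻¹ = p ∨ l * p * l⁻¹ = p * π z'}
      one_mem' := fun p _ => Or.inl (by simp)
      mul_mem' := fun {a b} ha hb p hp => by
        have hzconj : a * π z' * a⁻¹ = π z' := by rw [hzb a, mul_inv_cancel_right]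
        rw [show a * b * p * (a * b)⁻¹ = a * (b * p * b⁻¹) * a⁻¹ by group]
        rcases hb p hp with e | e <;> rw [e]
        · exact ha p hp
        · rw [show a * (p * π z') * a⁻¹ = a * p * a⁻¹ * (a * π z' * a⁻¹) by group, hzconj]
          rcases ha p hp with e' | e' <;> rw [e']
          · exact Or.inr rfl
          · exact Or.inl (by rw [mul_assoc, hzb2, mul_one])
      inv_mem' := fun {a} ha p hp => by
        rw [inv_inv]
        have hp' : a⁻¹ * p * a ∈ pCore 2 (L ⧸ O) := by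
          have := (inferInstance : (pCore 2 (L ⧸ O)).Normal).conj_mem p hp a⁻¹
          rwa [inv_inv] at this
        rcases ha _ hp' with e | e <;> rw [show a * (a⁻¹ * p * a) * a⁻¹ = p by group] at e
        · exact Or.inl e.symm
        · right
          calc a⁻¹ * p * a = a⁻¹ * p * a * π z' * π z' := by rw [mul_assoc _ (π z'), hzb2, mul_one]
            _ = _ := by rw [← e] }
  have hDn : Dz.Normal := ⟨fun l hl y p hp => by
    have hp' : y⁻¹ * p * y ∈ pCore 2 (L ⧸ O) := by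
      have := (inferInstance : (pCore 2 (L ⧸ O)).Normal).conj_mem p hp y⁻¹
      rwa [inv_inv] at this
    rw [show y * l * y⁻¹ * p * (y * l * y⁻¹)⁻¹ = y * (l * (y⁻¹ * p * y) * l⁻¹) * y⁻¹ by group]
    rcases hl _ hp' with e | e <;> rw [e]
    · exact Or.inl (by group)
    · right
      rw [show y * (y⁻¹ * p * y * π z') * y⁻¹ = p * (y * π z' * y⁻¹) by group, hzb y, mul_inv_cancel_right]⟩
  have hDle : Dz ≤ pCore 2 (L ⧸ O) := by
    refine CfsgLib.le_pCore (fun l => ?_)
    have h2 : (l : L ⧸ O) * l ∈ pCore 2 (L ⧸ O) := hcon' fun p hp => by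
      have e : (l : L ⧸ O) * l * p * ((l : L ⧸ O) * l)⁻¹ = p := by
        rw [show (l : L ⧸ O) * l * p * ((l : L ⧸ O) * l)⁻¹ = l * (l * p * (l : L ⧸ O)⁻¹) * (l : L ⧸ O)⁻¹ by group]
        rcases l.2 p hp with e | e <;> rw [e]
        · exact e
        · rw [show (l : L ⧸ O) * (p * π z') * (l : L ⧸ O)⁻¹ = l * p * (l : L ⧸ O)⁻¹ * (l * π z' * (l : L ⧸ O)⁻¹) by group,
            hzb l, mul_inv_cancel_right, e, mul_assoc, hzb2, mul_one]
      exact (mul_inv_eq_iff_eq_mul.mp e).symm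
    obtain ⟨k, hk⟩ := CfsgLib.isPGroup_pCore (G := L ⧸ O) 2 ⟨_, h2⟩
    refine ⟨k + 1, Subtype.ext ?_⟩
    rw [pow_succ', pow_mul, pow_two, SubgroupClass.coe_pow, Subgroup.coe_mul]
    exact congrArg Subtype.val hk
  have hUQ : ∀ v ∈ U, ∀ hv : v ∈ L, (⟨v, hv⟩ : L) ∈ Qs := by
    intro v hvU hv
    refine ⟨h.le hvU, ?_⟩
    show π ⟨v, hv⟩ ∈ pCore 2 (L ⧸ O)
    refine hDle fun p hp => ?_
    obtain ⟨s, hs, rfl⟩ : p ∈ (TL : Subgroup L).map π := by
      refine (?_ : pCore 2 (L ⧸ O) ≤ (TL : Subgroup L).map π) hp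
      rw [← Sylow.coe_mapSurjective (QuotientGroup.mk'_surjective O) TL]
      exact pCore_le_sylow _
    rw [← map_inv, ← map_mul, ← map_mul, ← map_mul]
    have hsS : (s : G) ∈ (S : Subgroup G) := hs
    have hsv : v * (s : G) * v⁻¹ = s ∨ v * (s : G) * v⁻¹ = s * z := by
      have hs' : (s : G)⁻¹ * v * s ∈ U := (mem_normalizer_iff''.mp (h.nrm hsS) v).mp hvU
      by_cases hc : (s : G) ∈ centralizer (U : Set G)
      · exact Or.inl (by rw [hc v hvU, mul_inv_cancel_right])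
      rcases h.cases hvU with ev | ev | ev | ev <;> rw [ev]
      · exact Or.inl (by simp)
      · exact Or.inl (by rw [← h.z_cen _ hsS, mul_inv_cancel_right])
      · right
        have e := h.conj_u hsS hc
        have hci := h.z_cen _ hsS
        calc u * (s : G) * u⁻¹ = (s * u * (s : G)⁻¹ * z) * s * u⁻¹ := by rw [e, mul_assoc u z z, h.z_two, mul_one]
          _ = s * u * ((s : G)⁻¹ * (z * s)) * u⁻¹ := by group
          _ = s * u * z * u⁻¹ := by rw [← hci]; group
          _ = s * z := by rw [mul_assoc (s : G), ea_comm h.ea h.u_mem h.z_mem]; group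
      · right
        have e := h.conj_u hsS hc
        have hci := h.z_cen _ hsS
        calc u * z * (s : G) * (u * z)⁻¹ = u * (z * s * z⁻¹) * u⁻¹ := by group
          _ = (s * u * (s : G)⁻¹ * z) * s * u⁻¹ := by
            rw [← hci, mul_inv_cancel_right, e, mul_assoc u z z, h.z_two, mul_one]
          _ = s * u * ((s : G)⁻¹ * (z * s)) * u⁻¹ := by group
          _ = s * u * z * u⁻¹ := by rw [← hci]; group
          _ = s * z := by rw [mul_assoc (s : G), ea_comm h.ea h.u_mem h.z_mem]; group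
    rcases hsv with e | e
    · exact Or.inl (congrArg π (Subtype.ext e))
    · exact Or.inr (congrArg π (Subtype.ext e))
  intro g hg
  obtain ⟨n, hn, k, hk, he⟩ := Subgroup.mem_sup_of_normal_right.1 (hfr ▸ mem_top (⟨g, hg⟩ : L) :
    (⟨g, hg⟩ : L) ∈ normalizer (Qs : Set L) ⊔ K)
  rw [show g = (n : G) * k from congrArg Subtype.val he.symm]
  refine mul_mem ?_ (hKM k hk)
  -- an element normalising the radical
  have hnz : (n : G) * z * (n : G)⁻¹ = z := mul_inv_eq_iff_eq_mul.mpr (mem_centralizer_singleton_iff.mp n.2)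
  obtain ⟨hV, hV4⟩ := ea_map_conj h.ea (n : G)
  have hVS : U.map (MulAut.conj (n : G)).toMonoidHom ≤ (S : Subgroup G) := by
    rintro _ ⟨v, hv, rfl⟩
    exact ((mem_normalizer_iff.mp hn _).mp (hUQ v hv (hSL (h.le hv)))).1
  have hWodd := h.odd_Wf hcon hES hE hE8
  have hle : W ≤ Wf (U.map (MulAut.conj (n : G)).toMonoidHom) := by
    refine SolvSF.gen_le hV (by rw [hV4, h.card]; norm_num) (fun hd => ?_) (hVS.trans h.S_le_normalizer) ?_
    · exact Nat.not_even_iff_odd.mpr hWodd (even_iff_two_dvd.mpr hd)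
    intro x hxV hx1
    refine le_trans ?_ (core_le_Wf hxV hx1)
    have hxS := hVS hxV
    by_cases hgood : Good S x
    · exact (h.good_core hcon hgood hx1).2
    have hx2 := ea_two_mul_self hV hxV
    obtain ⟨c, hc, hcx, hcz⟩ := h.exists_root hcon hES hE hE8 hxS hx2 hgood
    obtain ⟨v, hv, rfl⟩ := hxV
    set T := (S : Subgroup G) ⊓ centralizer (U : Set G)
    refine h.core_of_root hcon hES hE hE8 (orderOf_eq_prime_of_ea hV ⟨v, hv, rfl⟩ hx1) hxS hc hcx hcz
      (R := T.map (MulAut.conj (n : G)).toMonoidHom) ((S.isPGroup'.to_le inf_le_left).map _) ?_ ?_ ?_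
    · rw [Subgroup.card_map_of_injective (MulAut.conj (n : G)).injective]
      exact h.card_le_two_mul le_rfl
    · rintro _ ⟨t, ht, rfl⟩
      rw [mem_centralizer_singleton_iff, ← map_mul, ← map_mul]
      exact congrArg _ (ht.2 v hv).symm
    · rintro _ ⟨t, ht, rfl⟩
      conv_lhs => rw [← hnz]
      conv_rhs => rw [← hnz]
      show (MulAut.conj (n : G)) t * (MulAut.conj (n : G)) z = (MulAut.conj (n : G)) z * (MulAut.conj (n : G)) t
      rw [← map_mul, ← map_mul, h.z_cen t ht.1]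
  have hmap : W.map (MulAut.conj (n : G)).toMonoidHom = Wf (U.map (MulAut.conj (n : G)).toMonoidHom) := by
    refine le_antisymm (map_Wf_le _ fun v hv => ⟨v, hv, rfl⟩) ?_
    refine iSup_le fun b => ?_
    obtain ⟨v, hv, hve⟩ := b.2.1
    rw [← hve]
    show centralizerPPrimeCore 2 ((n : G) * v * (n : G)⁻¹) ≤ _
    rw [← map_centralizerPPrimeCore']
    refine Subgroup.map_mono (core_le_Wf hv fun e => b.2.2 ?_)
    rw [← hve, e, map_one]
  have heq : W = W.map (MulAut.conj (n : G)).toMonoidHom := Subgroup.eq_of_le_of_card_ge (hmap ▸ hle)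
    (Subgroup.card_map_of_injective (MulAut.conj (n : G)).injective).le
  exact Comp.mem_normalizer_of_maps fun w hw => heq.ge ⟨w, hw, rfl⟩

/-- Every involution of the normaliser is conjugate there to a good one. -/
theorem exists_good_conj (hcon : Hyp G) (hES : E ≤ (S : Subgroup G)) (hE : IsElementaryAbelian 2 E)
    (hE8 : 8 ≤ Nat.card E) (hno : ∀ H : Subgroup G, H.index ≠ 2) {t : G}
    (htM : t ∈ normalizer (Wf U : Set G)) (ht : orderOf t = 2) :
    ∃ m ∈ normalizer (Wf U : Set G), Good S (m * t * m⁻¹) := by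
  classical
  haveI := Fact.mk Nat.prime_two
  set M := normalizer (Wf U : Set G) with hM
  have hne : {m : G | m ∈ M ∧ m * t * m⁻¹ ∈ (S : Subgroup G)}.Nonempty := by
    obtain ⟨m, hm, hmS⟩ := conj_into_sylow S h.S_le_normalizer (Q := zpowers t)
      (IsPGroup.of_card (n := 1) (by rw [Nat.card_zpowers, ht, pow_one])) (zpowers_le.mpr htM)
    exact ⟨m, hm, hmS t (mem_zpowers t)⟩
  obtain ⟨m, ⟨hm, hxS⟩, hmax⟩ := (Set.toFinite _).exists_maximalFor
    (fun m => Nat.card ↥((S : Subgroup G) ⊓ centralizer ({m * t * m⁻¹} : Set G))) _ hne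
  refine ⟨m, hm, by_contra fun hbad => ?_⟩
  set x := m * t * m⁻¹ with hxdef
  have hx : orderOf x = 2 := by rw [hxdef, ZStar.orderOf_conj, ht]
  have hx2 : x * x = 1 := by rw [← pow_two, ← hx, pow_orderOf_eq_one]
  obtain ⟨c, hc, hcx, hcz⟩ := h.exists_root hcon hES hE hE8 hxS hx2 hbad
  set L := centralizer ({x} : Set G) with hL
  set R0 := (S : Subgroup G) ⊓ L with hR0
  obtain ⟨RS, hRS⟩ := ((S.isPGroup'.to_le (inf_le_left : R0 ≤ S)).of_equiv
    (subgroupOfEquivOfLe (inf_le_right : R0 ≤ L)).symm).exists_le_sylow (G := L)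
  set R := (RS : Subgroup L).map L.subtype with hR
  have hR0R : R0 ≤ R := fun a ha => ⟨⟨a, ha.2⟩, hRS ha, rfl⟩
  have hxT : x ∉ centralizer (U : Set G) := fun hc' => hbad (h.good_of_cent hcon hES hE hE8 hxS hx2 hc')
  have hzT : z ∈ centralizer (U : Set G) := fun v hv => ea_comm h.ea hv h.z_mem
  have hR0ne : R0 ≠ R := by
    intro e
    obtain ⟨A, hAC, hA8, hA2⟩ := RankThreeCent.rank_three_centralizer hno (by
      obtain ⟨E', hE'le, hE'8⟩ := KFunctor.exists_sub (p := 2) (k := 3) hE le_rfl (by simpa using hE8)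
      exact ⟨E', by rw [hE'8]; norm_num, fun a ha => hE.2 a (hE'le ha)⟩) x hx
    have hAea : IsElementaryAbelian 2 A :=
      SolvSF.ea_of_comm (fun a ha b hb => RankThreeCent.commute_of_exp_two hA2 ha hb) hA2
    obtain ⟨RA, hRA⟩ := ((isPGroup_ea hAea).of_equiv (subgroupOfEquivOfLe hAC).symm).exists_le_sylow (G := L)
    obtain ⟨g, hg⟩ := MulAction.exists_smul_eq L RA RS
    obtain ⟨hB, hB8⟩ := ea_map_conj hAea (g : G)
    have hBR0 : A.map (MulAut.conj (g : G)).toMonoidHom ≤ R0 := by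
      rw [e]
      rintro _ ⟨a, ha, rfl⟩
      refine ⟨g * ⟨a, hAC ha⟩ * g⁻¹, ?_, rfl⟩
      rw [← hg]
      exact ⟨⟨a, hAC ha⟩, hRA ha, rfl⟩
    set B := A.map (MulAut.conj (g : G)).toMonoidHom
    have hxo : IsElementaryAbelian 2 (zpowers x) := SolvSF.ea_of_comm
      (fun a ha b hb => by
        obtain ⟨i, rfl⟩ := mem_zpowers_iff.mp ha
        obtain ⟨j, rfl⟩ := mem_zpowers_iff.mp hb
        exact (Commute.zpow_zpow (Commute.refl x) i j).eq)
      fun a ha => by
        obtain ⟨i, rfl⟩ := mem_zpowers_iff.mp ha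
        rw [← zpow_natCast, ← zpow_mul, mul_comm, zpow_mul, zpow_natCast, pow_two, hx2, one_zpow]
    have hBx := ea_sup hB hxo fun a ha b hb => by
      obtain ⟨i, rfl⟩ := mem_zpowers_iff.mp hb
      exact ((show Commute a x from mem_centralizer_singleton_iff.mp (hBR0 ha).2).zpow_right i).eq
    exact hbad ⟨_, sup_le (hBR0.trans inf_le_left) (zpowers_le.mpr hxS), hBx,
      (hB8.trans hA8).ge.trans (Subgroup.card_le_of_le le_sup_left), mem_sup_right (mem_zpowers x)⟩
  have hRp : IsPGroup 2 R := RS.isPGroup'.map _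
  obtain ⟨y, hy, hyR0⟩ := SetLike.exists_of_lt
    (StrongEmbedS4.exists_bigger hRp (lt_of_le_of_ne hR0R hR0ne))
  -- `y` fixes `z`
  have hzR0 : z ∈ R0 := ⟨h.le h.z_mem, mem_centralizer_singleton_iff.mpr (h.z_cen x hxS).symm⟩
  have hyz : y * z * y⁻¹ = z := by
    have hw := (mem_normalizer_iff.mp hy.2 z).mp hzR0
    have hcR0 : c ∈ R0 := ⟨hc, mem_centralizer_singleton_iff.mpr hcx⟩
    have hwT : y * z * y⁻¹ ∈ centralizer (U : Set G) := by
      rw [← hcz, show y * (c * c) * y⁻¹ = (y * c * y⁻¹) * (y * c * y⁻¹) by group]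
      exact h.sq_mem_cent ((mem_normalizer_iff.mp hy.2 c).mp hcR0).1
    have hw2 : y * z * y⁻¹ * (y * z * y⁻¹) = 1 := by
      rw [show y * z * y⁻¹ * (y * z * y⁻¹) = y * (z * z) * y⁻¹ by group, h.z_two, mul_one, mul_inv_cancel]
    by_contra hne
    refine hbad (h.good_of_third hxS hx2 (fun e => hxT (e ▸ one_mem _)) (fun e => hxT (e ▸ hzT)) hw.1 hw2
      (mem_centralizer_singleton_iff.mp hw.2) ⟨fun e => h.z_ne (conj_eq_one_iff.mp e), ?_, hne, ?_⟩)
    · intro e; exact hxT (e ▸ hwT)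
    · intro e
      refine hxT ?_
      have : x = y * z * y⁻¹ * z := by rw [e, mul_assoc, h.z_two, mul_one]
      exact this ▸ mul_mem hwT hzT
  have hyM : y ∈ M := h.cent_z_le hcon hES hE hE8 (mem_centralizer_singleton_iff.mpr (mul_inv_eq_iff_eq_mul.mp hyz))
  -- a larger centraliser
  set R1 := R0 ⊔ zpowers y with hR1
  have hR1R : R1 ≤ R := sup_le hR0R (zpowers_le.mpr hy.1)
  obtain ⟨m', hm', hmS'⟩ := conj_into_sylow S h.S_le_normalizer (Q := R1) (hRp.to_le hR1R)
    (sup_le (inf_le_left.trans h.S_le_normalizer) (zpowers_le.mpr hyM))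
  have hxR1 : x ∈ R1 := mem_sup_left ⟨hxS, mem_centralizer_singleton_iff.mpr rfl⟩
  have hmem' : m' * m ∈ {m : G | m ∈ M ∧ m * t * m⁻¹ ∈ (S : Subgroup G)} := by
    refine ⟨mul_mem hm' hm, ?_⟩
    rw [show m' * m * t * (m' * m)⁻¹ = m' * x * m'⁻¹ by rw [hxdef]; group]
    exact hmS' x hxR1
  have hbig : Nat.card R1 ≤ Nat.card ↥((S : Subgroup G) ⊓ centralizer ({m' * m * t * (m' * m)⁻¹} : Set G)) := by
    rw [show m' * m * t * (m' * m)⁻¹ = m' * x * m'⁻¹ by rw [hxdef]; group,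
      Nat.card_congr (R1.equivMapOfInjective (MulAut.conj m').toMonoidHom (MulAut.conj m').injective).toEquiv]
    refine Subgroup.card_le_of_le ?_
    rintro _ ⟨a, ha, rfl⟩
    refine ⟨hmS' a ha, mem_centralizer_singleton_iff.mpr ?_⟩
    obtain ⟨a', -, rfl⟩ := hR1R ha
    show (MulAut.conj m') (a' : G) * (MulAut.conj m') x = (MulAut.conj m') x * (MulAut.conj m') (a' : G)
    rw [← map_mul, ← map_mul, mem_centralizer_singleton_iff.mp a'.2]
  have hlt : Nat.card R0 < Nat.card R1 := by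
    refine lt_of_le_of_ne (Subgroup.card_le_of_le le_sup_left) fun e => hyR0 ?_
    exact (Subgroup.eq_of_le_of_card_ge (le_sup_left : R0 ≤ R1) e.ge).ge (mem_sup_right (mem_zpowers y))
  have h5 : Nat.card ↥((S : Subgroup G) ⊓ centralizer ({m' * m * t * (m' * m)⁻¹} : Set G)) ≤ Nat.card R0 :=
    hmax hmem' (hlt.le.trans hbig)
  omega

end NormFour

/-- **The dichotomy theorem**, without connectivity. -/
theorem charTwoType_of_noIndexTwo (h3 : ¬ PRankLE 2 2 G) (hO : oddCore G = ⊥) (hc : ¬ IsComponentType G)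
    (hno : ∀ N : Subgroup G, N.Normal → N.index ≠ 2) : IsCharacteristicTwoType G := by
  classical
  haveI := Fact.mk Nat.prime_two
  have hcon := hyp_of_not_componentType hc
  have hno' : ∀ H : Subgroup G, H.index ≠ 2 := fun H hH =>
    hno H (Subgroup.normal_of_index_eq_two hH) hH
  simp only [PRankLE, not_forall, not_le] at h3
  obtain ⟨E₀, hEc, hEe, hElt⟩ := h3
  have hE₀ : IsElementaryAbelian 2 E₀ :=
    SolvSF.ea_of_comm (fun a ha b hb => congrArg Subtype.val (hEc.is_comm.comm ⟨a, ha⟩ ⟨b, hb⟩)) hEe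
  obtain ⟨S, hES⟩ := (isPGroup_ea hE₀).exists_le_sylow
  have hE8 : 8 ≤ Nat.card E₀ := eight_le_of_four_lt (isPGroup_ea hE₀) (by simpa using hElt)
  obtain ⟨U, z, u, h⟩ := exists_normFour S hES hE₀ hE8
  set W := Wf U with hWdef
  set M := normalizer (W : Set G) with hMdef
  have hWodd := h.odd_Wf hcon hES hE₀ hE8
  have hSM : (S : Subgroup G) ≤ M := h.S_le_normalizer
  have hne1 : ∀ {t : G}, orderOf t = 2 → t ≠ 1 := fun {t} ht e => by rw [e, orderOf_one] at ht; omega
  -- the cores at the involutions of `M`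
  have hcoreM : ∀ t ∈ M, orderOf t = 2 → centralizerPPrimeCore 2 t ≤ W ∧
      W ⊓ centralizer ({t} : Set G) ≤ centralizerPPrimeCore 2 t ∧
      ∃ A, IsElementaryAbelian 2 A ∧ 8 ≤ Nat.card A ∧ A ≤ M ∧ t ∈ A := by
    intro t htM ht
    obtain ⟨m, hm, hgood⟩ := h.exists_good_conj hcon hES hE₀ hE8 hno' htM ht
    obtain ⟨h1, h2⟩ := h.good_core hcon hgood (hne1 (by rw [ZStar.orderOf_conj, ht]))
    obtain ⟨A, hAS, hA, hA8, htA⟩ := hgood
    obtain ⟨hA', hA'8⟩ := ea_map_conj hA m⁻¹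
    refine ⟨fun y hy => ?_, fun y hy => ?_, _, hA', hA'8.symm ▸ hA8, ?_, ⟨_, htA, by simp [mul_assoc]⟩⟩
    · have h4 : m * y * m⁻¹ ∈ W := h1 ((map_centralizerPPrimeCore' m t).le ⟨y, hy, rfl⟩)
      exact (mem_normalizer_iff.mp hm y).mpr h4
    · have h4 : m * y * m⁻¹ ∈ centralizerPPrimeCore 2 (m * t * m⁻¹) := h2 ⟨(mem_normalizer_iff.mp hm y).mp hy.1,
        mem_centralizer_singleton_iff.mpr (by
          calc m * y * m⁻¹ * (m * t * m⁻¹) = m * (y * t) * m⁻¹ := by group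
            _ = m * (t * y) * m⁻¹ := by rw [mem_centralizer_singleton_iff.mp hy.2]
            _ = _ := by group)⟩
      rw [← map_centralizerPPrimeCore'] at h4
      obtain ⟨w, hw, hwe⟩ := h4
      exact (MulAut.conj m).injective hwe ▸ hw
    · rintro _ ⟨a, ha, rfl⟩
      exact mul_mem (mul_mem (inv_mem hm) (hSM (hAS ha))) (inv_mem (inv_mem hm))
  have hinto : ∀ t : G, orderOf t = 2 → ∃ g : G, g * t * g⁻¹ ∈ (S : Subgroup G) := by
    intro t ht
    obtain ⟨Q, hQ⟩ := (IsPGroup.of_card (G := zpowers t) (n := 1)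
      (by rw [Nat.card_zpowers, ht, pow_one])).exists_le_sylow
    obtain ⟨g, hg⟩ := MulAction.exists_smul_eq G Q S
    exact ⟨g, by rw [← hg]; exact ⟨t, hQ (mem_zpowers t), rfl⟩⟩
  have heven : Even (Nat.card G) :=
    even_iff_two_dvd.mpr (h.orderOf_z ▸ orderOf_dvd_natCard z)
  by_cases hW1 : W = ⊥
  · refine ⟨heven, fun T hT hT1 => ?_⟩
    refine (Comp.gfit_eq_pCore_iff 2).mp (Comp.charP_local 2 (fun t ht => ?_) T hT hT1)
    refine (Comp.gfit_eq_pCore_iff 2).mpr (CfsgLib.RadicalQuotient.centralizer_le (hcon t ht) ?_)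
    obtain ⟨g, hg⟩ := hinto t ht
    have h1 : centralizerPPrimeCore 2 (g * t * g⁻¹) = ⊥ :=
      le_bot_iff.1 (hW1 ▸ (hcoreM _ (hSM hg) (by rw [ZStar.orderOf_conj, ht])).1)
    rw [← map_centralizerPPrimeCore', Subgroup.map_eq_bot_iff_of_injective _ (MulAut.conj g).injective] at h1
    exact (Subgroup.map_eq_bot_iff_of_injective _ (Subgroup.subtype_injective _)).1 h1
  exfalso
  have hM : M ≠ ⊤ := fun e => hW1 (by
    haveI : W.Normal := normalizer_eq_top_iff.mp e
    exact le_bot_iff.mp (hO ▸ CfsgLib.le_oddCore hWodd))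
  have hfour : ∀ A : Subgroup G, IsElementaryAbelian 2 A → Nat.card A = 4 → A ≤ M → W = Wf A := by
    intro A hA hA4 hAM
    refine le_antisymm ?_ (iSup_le fun b => (hcoreM _ (hAM b.2.1) (orderOf_eq_prime_of_ea hA b.2.1 b.2.2)).1)
    exact SolvSF.gen_le hA (by omega) (fun hd => Nat.not_even_iff_odd.mpr hWodd (even_iff_two_dvd.mpr hd)) hAM
      fun a ha ha1 => ((hcoreM a (hAM ha) (orderOf_eq_prime_of_ea hA ha ha1)).2.1).trans (core_le_Wf ha ha1)
  have hmove : ∀ (A : Subgroup G) (g : G), IsElementaryAbelian 2 A → Nat.card A = 4 → A ≤ M →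
      (∀ a ∈ A, g * a * g⁻¹ ∈ M) → g ∈ M := by
    intro A g hA hA4 hAM hg
    obtain ⟨hA', hA'4⟩ := ea_map_conj hA g
    have h1 : W.map (MulAut.conj g).toMonoidHom ≤ W := by
      conv_lhs => rw [hfour A hA hA4 hAM]
      rw [hfour _ hA' (hA'4.trans hA4) (by rintro _ ⟨a, ha, rfl⟩; exact hg a ha)]
      exact map_Wf_le _ fun x hx => ⟨x, hx, rfl⟩
    exact Comp.mem_normalizer_of_maps fun w hw => h1 ⟨w, hw, rfl⟩
  have habove : ∀ t ∈ M, orderOf t = 2 → centralizer ({t} : Set G) ≤ M ∧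
      ∃ A, IsElementaryAbelian 2 A ∧ 8 ≤ Nat.card A ∧ A ≤ M ∧ t ∈ A := by
    intro t htM ht
    obtain ⟨h1, -, A, hA, hA8, hAM, htA⟩ := hcoreM t htM ht
    exact ⟨centralizer_le_of_core hcon hmove ht (h1.trans Subgroup.le_normalizer) hA hA8 hAM htA,
      A, hA, hA8, hAM, htA⟩
  have hse : IsStronglyEmbedded M := by
    refine ⟨hM, even_iff_two_dvd.mpr ((dvd_trans (by rw [h.card]; norm_num)
      (Subgroup.card_dvd_of_le (h.le.trans hSM)))), ?_⟩
    intro g hg
    refine Nat.not_even_iff_odd.mp fun he => hg ?_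
    obtain ⟨x, hx⟩ := exists_prime_orderOf_dvd_card' 2 (even_iff_two_dvd.mp he)
    rw [← Subgroup.orderOf_coe] at hx
    obtain ⟨-, E, hE, hE8', hEM, hxE⟩ := habove _ (Subgroup.mem_inf.mp x.2).1 hx
    obtain ⟨y, hy, hyx⟩ := (Subgroup.mem_inf.mp x.2).2
    have hy2 : orderOf y = 2 := by
      rw [← hx, ← hyx]
      exact ((MulEquiv.orderOf_eq (MulAut.conj g) y)).symm
    have hCy := (habove y hy hy2).1
    obtain ⟨A, hAE, hA, hA4⟩ := exists_four (isPGroup_ea hE) fun h => by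
      have := h ⊤ ⟨⟨fun a b => Subtype.ext (Subtype.ext (ea_comm hE (a : E).2 (b : E).2))⟩⟩
        fun a _ => Subtype.ext (hE.2 _ a.2)
      rw [Subgroup.card_top] at this
      norm_num at this
      omega
    refine inv_mem_iff.mp (hmove A g⁻¹ hA hA4 (hAE.trans hEM) fun a ha => hCy ?_)
    rw [mem_centralizer_singleton_iff]
    have h1 := ea_comm hE (hAE ha) hxE
    rw [← hyx] at h1
    simp only [MulEquiv.coe_toMonoidHom, MulAut.conj_apply] at h1
    calc g⁻¹ * a * g⁻¹⁻¹ * y = g⁻¹ * (a * (g * y * g⁻¹)) * g := by group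
      _ = g⁻¹ * (g * y * g⁻¹ * a) * g := by rw [h1]
      _ = _ := by group
  have h1221 := Bender.Assembly.oddCore_le Bender.Assembly.goodAll hse
  rw [hO, le_bot_iff, Subgroup.map_eq_bot_iff_of_injective _ M.subtype_injective] at h1221
  refine hW1 ?_
  have hWM : W ≤ M := Subgroup.le_normalizer
  haveI : (W.subgroupOf M).Normal :=
    (normal_subgroupOf_iff_le_normalizer hWM).mpr le_rfl
  have h2 : W.subgroupOf M ≤ oddCore ↥M := CfsgLib.le_oddCore (by
    rwa [Nat.card_congr (subgroupOfEquivOfLe hWM).toEquiv])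
  rw [h1221, le_bot_iff, Subgroup.subgroupOf_eq_bot] at h2
  exact h2.eq_bot_of_le hWM

end CfsgLib.TwoLocalSignalizer
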