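import Cfsg.Agent.Lib.TwoLocalSignalizer.Connected
import Cfsg.Agent.Lib.RankThreeCentralizer
import Cfsg.Agent.Lib.Signalizer.KFunctor

/-!
A Sylow 2-subgroup with a normal four group: the elementary abelian subgroups of order eight above it give one odd
subgroup, and an involution outside all of them centralises an element of order four whose square is the central
involution of the four group.

Blueprint: `blueprint/S1296.md`, setup.
-/

set_option autoImplicit false
set_option linter.unusedSectionVars false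
set_option linter.style.haveILetI false

namespace CfsgLib.TwoLocalSignalizer

open Cfsg Subgroup CfsgLib.Signalizer CfsgLib.SolvSF

universe u

variable {G : Type u} [Group G] [Finite G]

/-- A normal four group of a Sylow subgroup with its central involution. -/
structure NormFour (S : Sylow 2 G) (U : Subgroup G) (z u : G) : Prop where
  le : U ≤ (S : Subgroup G)
  nrm : (S : Subgroup G) ≤ normalizer (U : Set G)
  ea : IsElementaryAbelian 2 U
  card : Nat.card U = 4
  z_mem : z ∈ U
  z_ne : z ≠ 1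
  z_cen : ∀ s ∈ (S : Subgroup G), s * z = z * s
  u_mem : u ∈ U
  u_ne : u ≠ 1
  u_ne_z : u ≠ z

/-- Lying in an elementary abelian subgroup of order at least eight of `S`. -/
def Good (S : Sylow 2 G) (x : G) : Prop :=
  ∃ E ≤ (S : Subgroup G), IsElementaryAbelian 2 E ∧ 8 ≤ Nat.card E ∧ x ∈ E

theorem exists_normFour (S : Sylow 2 G) {E : Subgroup G} (hES : E ≤ (S : Subgroup G))
    (hE : IsElementaryAbelian 2 E) (hE8 : 8 ≤ Nat.card E) : ∃ U z u, NormFour S U z u := by
  haveI := Fact.mk Nat.prime_two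
  obtain ⟨E', hE'le, hE'8⟩ := KFunctor.exists_sub (p := 2) (k := 3) hE le_rfl (by simpa using hE8)
  obtain ⟨U', hU'n, hU'4, hU'2⟩ := RankThreeCent.exists_normal_four S.2 (E'.subgroupOf S)
    (by rw [Nat.card_congr (subgroupOfEquivOfLe (hE'le.trans hES)).toEquiv, hE'8]; norm_num)
    (fun e he => Subtype.ext (hE.2 _ (hE'le he)))
  set U := U'.map (S : Subgroup G).subtype with hU
  have hUS : U ≤ (S : Subgroup G) := Subgroup.map_subtype_le _
  have hU4 : Nat.card U = 4 := by
    rw [hU, Subgroup.card_map_of_injective (Subgroup.subtype_injective _), hU'4]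
  have hUea : IsElementaryAbelian 2 U := by
    have h2 : ∀ a ∈ U, a ^ 2 = 1 := by
      rintro _ ⟨a, ha, rfl⟩
      rw [← map_pow, hU'2 a ha, map_one]
    exact SolvSF.ea_of_comm (fun a ha b hb => RankThreeCent.commute_of_exp_two h2 ha hb) h2
  have hUn : (S : Subgroup G) ≤ normalizer (U : Set G) := fun s hs => Comp.mem_normalizer_of_maps (by
    rintro _ ⟨a, ha, rfl⟩
    exact ⟨⟨s, hs⟩ * a * ⟨s, hs⟩⁻¹, hU'n.conj_mem a ha _, rfl⟩)
  obtain ⟨z, hzU, hz2, hzc⟩ := Comp.exists_central_in_normal (p := 2) S.isPGroup' hUS hUn fun e => by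
    rw [e, Subgroup.card_bot] at hU4; omega
  have hz1 : z ≠ 1 := fun e => by rw [e, orderOf_one] at hz2; omega
  obtain ⟨u, hu, huz⟩ : ∃ u ∈ U, u ∉ zpowers z := SetLike.not_le_iff_exists.mp fun h => by
    have := Subgroup.card_le_of_le h
    rw [Nat.card_zpowers, hz2, hU4] at this
    omega
  exact ⟨U, z, u, hUS, hUn, hUea, hU4, hzU, hz1, hzc, hu, fun e => huz (e ▸ one_mem _),
    fun e => huz (e ▸ mem_zpowers z)⟩

namespace NormFour

variable {S : Sylow 2 G} {U : Subgroup G} {z u : G} (h : NormFour S U z u)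
include h

theorem z_two : z * z = 1 := ea_two_mul_self h.ea h.z_mem

theorem u_two : u * u = 1 := ea_two_mul_self h.ea h.u_mem

theorem orderOf_z : orderOf z = 2 := haveI := Fact.mk Nat.prime_two; orderOf_eq_prime_of_ea h.ea h.z_mem h.z_ne

theorem cases {v : G} (hv : v ∈ U) : v = 1 ∨ v = z ∨ v = u ∨ v = u * z := by
  have h4 : ({1, z, u, u * z} : Set G) = (U : Set G) := by
    refine Set.eq_of_subset_of_ncard_le ?_ ?_ (Set.toFinite _)
    · rintro w (rfl | rfl | rfl | rfl)
      exacts [U.one_mem, h.z_mem, h.u_mem, mul_mem h.u_mem h.z_mem]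
    · rw [← Nat.card_coe_set_eq]
      show Nat.card U ≤ _
      have d3 : u * z ≠ 1 := fun e => h.u_ne_z ((mul_eq_one_iff_eq_inv.mp e).trans
        (inv_eq_of_mul_eq_one_right h.z_two))
      rw [h.card, Set.ncard_insert_of_notMem (by simp [Ne.symm h.z_ne, Ne.symm h.u_ne, Ne.symm d3]),
        Set.ncard_insert_of_notMem (by simp [Ne.symm h.u_ne_z, h.u_ne]), Set.ncard_pair (by simp [h.z_ne])]
  simpa using (show v ∈ ({1, z, u, u * z} : Set G) from h4.ge hv)

theorem mem_cent_iff {s : G} (hs : s ∈ (S : Subgroup G)) :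
    s ∈ centralizer (U : Set G) ↔ s * u * s⁻¹ = u := by
  refine ⟨fun hc => by rw [← hc u h.u_mem, mul_inv_cancel_right], fun hc v hv => ?_⟩
  have h1 : Commute s u := mul_inv_eq_iff_eq_mul.mp hc
  have h2 : Commute s z := h.z_cen s hs
  rcases h.cases hv with rfl | rfl | rfl | rfl
  exacts [(Commute.one_right s).symm.eq, h2.symm.eq, h1.symm.eq, (h1.mul_right h2).symm.eq]

theorem conj_u {s : G} (hs : s ∈ (S : Subgroup G)) (hc : s ∉ centralizer (U : Set G)) :
    s * u * s⁻¹ = u * z := by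
  rcases h.cases ((mem_normalizer_iff.mp (h.nrm hs) u).mp h.u_mem) with e | e | e | e
  · exact absurd (conj_eq_one_iff.mp e) h.u_ne
  · refine absurd ?_ h.u_ne_z
    have e' : s * u * s⁻¹ = s * z * s⁻¹ := by rw [e, h.z_cen s hs, mul_inv_cancel_right]
    exact mul_left_cancel (mul_right_cancel e')
  · exact absurd ((h.mem_cent_iff hs).mpr e) hc
  · exact e

/-- The centraliser of `U` has index at most two in `S`. -/
theorem mul_mem_cent {s t : G} (hs : s ∈ (S : Subgroup G)) (ht : t ∈ (S : Subgroup G))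
    (hs' : s ∉ centralizer (U : Set G)) (ht' : t ∉ centralizer (U : Set G)) :
    s * t ∈ centralizer (U : Set G) := by
  rw [h.mem_cent_iff (mul_mem hs ht),
    show s * t * u * (s * t)⁻¹ = s * (t * u * t⁻¹) * s⁻¹ by group, h.conj_u ht ht',
    show s * (u * z) * s⁻¹ = (s * u * s⁻¹) * (s * z * s⁻¹) by group, h.conj_u hs hs', h.z_cen s hs,
    mul_inv_cancel_right, mul_assoc, h.z_two, mul_one]

theorem sq_mem_cent {s : G} (hs : s ∈ (S : Subgroup G)) : s * s ∈ centralizer (U : Set G) := by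
  by_cases hc : s ∈ centralizer (U : Set G)
  exacts [mul_mem hc hc, h.mul_mem_cent hs hs hc hc]

theorem card_le_two_mul {A : Subgroup G} (hA : A ≤ (S : Subgroup G)) :
    Nat.card A ≤ 2 * Nat.card ↥(A ⊓ centralizer (U : Set G)) := by
  classical
  by_cases hle : A ≤ centralizer (U : Set G)
  · rw [inf_eq_left.mpr hle]; omega
  obtain ⟨t, ht, htc⟩ := SetLike.not_le_iff_exists.mp hle
  let f : ↥(A ⊓ centralizer (U : Set G)) × Bool → A := fun p =>
    if p.2 then ⟨p.1 * t⁻¹, mul_mem p.1.2.1 (inv_mem ht)⟩ else ⟨p.1, p.1.2.1⟩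
  have hf : Function.Surjective f := fun x => by
    by_cases hx : (x : G) ∈ centralizer (U : Set G)
    · exact ⟨(⟨x, x.2, hx⟩, false), rfl⟩
    · exact ⟨(⟨x * t, mul_mem x.2 ht, h.mul_mem_cent (hA x.2) (hA ht) hx htc⟩, true),
        Subtype.ext (mul_inv_cancel_right _ _)⟩
  have := Nat.card_le_card_of_surjective f hf
  rw [Nat.card_prod, Nat.card_eq_fintype_card (α := Bool), Fintype.card_bool] at this
  omega

/-- All subgroups `E₈` of `S` give the odd subgroup of `U`. -/
theorem Wf_eight (hcon : Hyp G) {E : Subgroup G} (hES : E ≤ (S : Subgroup G)) (hE : IsElementaryAbelian 2 E)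
    (hE8 : 8 ≤ Nat.card E) :
    Wf E = Wf U ∧ ∃ A ≤ (S : Subgroup G), IsElementaryAbelian 2 A ∧ 8 ≤ Nat.card A ∧ U ≤ A := by
  set D := E ⊓ centralizer (U : Set G) with hD
  have hD4 : 4 ≤ Nat.card D := by have := h.card_le_two_mul hES; rw [← hD] at this; omega
  have hA := ea_sup h.ea (ea_le hE (inf_le_left : D ≤ E)) fun a ha b hb => hb.2 a ha
  by_cases hUE : U ≤ E
  · exact ⟨(Wf_eq hcon hE hE8 hUE h.card.ge).symm, E, hES, hE, hE8, hUE⟩
  have h8 : 8 ≤ Nat.card ↥(U ⊔ D) := by
    refine eight_le_of_four_lt (isPGroup_ea hA) ?_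
    by_contra hle
    push Not at hle
    have e1 := Subgroup.eq_of_le_of_card_ge (le_sup_right : D ≤ U ⊔ D) (by omega)
    exact hUE (le_sup_left.trans (e1.ge.trans inf_le_left))
  refine ⟨?_, U ⊔ D, sup_le h.le (inf_le_left.trans hES), hA, h8, le_sup_left⟩
  rw [← Wf_eq hcon hE hE8 (inf_le_left : D ≤ E) hD4, Wf_eq hcon hA h8 le_sup_right hD4,
    Wf_eq hcon hA h8 le_sup_left h.card.ge]

/-- At a good involution the core is the fixed point group. -/
theorem good_core (hcon : Hyp G) {x : G} (hx : Good S x) (hx1 : x ≠ 1) :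
    centralizerPPrimeCore 2 x ≤ Wf U ∧ Wf U ⊓ centralizer ({x} : Set G) ≤ centralizerPPrimeCore 2 x := by
  haveI := Fact.mk Nat.prime_two
  obtain ⟨E, hES, hE, hE8, hxE⟩ := hx
  obtain ⟨-, hc⟩ := closure_spec (p := 2) hE (by simpa using hE8) (isSolvableSignalizerFunctor hcon hE)
  rw [← (h.Wf_eight hcon hES hE hE8).1]
  exact ⟨core_le_Wf hxE hx1, (hc x hxE hx1).le⟩

theorem odd_Wf (hcon : Hyp G) {E : Subgroup G} (hES : E ≤ (S : Subgroup G)) (hE : IsElementaryAbelian 2 E)
    (hE8 : 8 ≤ Nat.card E) : Odd (Nat.card ↥(Wf U)) := by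
  haveI := Fact.mk Nat.prime_two
  rw [← (h.Wf_eight hcon hES hE hE8).1]
  obtain ⟨hX, -⟩ := closure_spec (p := 2) hE (by simpa using hE8) (isSolvableSignalizerFunctor hcon hE)
  exact Nat.not_even_iff_odd.mp fun h => hX.2.1 (even_iff_two_dvd.mp h)

theorem S_le_normalizer : (S : Subgroup G) ≤ normalizer (Wf U : Set G) :=
  h.nrm.trans (normalizer_le_normalizer_Wf U)

/-- An involution commuting with `x` and `z` outside `⟨x, z⟩` makes `x` good. -/
theorem good_of_third {x a : G} (hx : x ∈ (S : Subgroup G)) (hx2 : x * x = 1) (hx1 : x ≠ 1) (hxz : x ≠ z)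
    (ha : a ∈ (S : Subgroup G)) (ha2 : a * a = 1) (hax : a * x = x * a)
    (hne : a ≠ 1 ∧ a ≠ x ∧ a ≠ z ∧ a ≠ x * z) : Good S x := by
  haveI := Fact.mk Nat.prime_two
  have hpow : ∀ {y : G}, y * y = 1 → ∀ w ∈ zpowers y, w = 1 ∨ w = y := by
    intro y hy w hw
    obtain ⟨i, rfl⟩ := mem_zpowers_iff.mp hw
    rcases Int.even_or_odd i with ⟨j, rfl⟩ | ⟨j, rfl⟩
    · left; rw [← two_mul, zpow_mul, zpow_two, hy, one_zpow]
    · right; rw [_root_.zpow_add, zpow_mul, zpow_two, hy, one_zpow, one_mul, zpow_one]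
  have hone : ∀ {y : G}, y * y = 1 → IsElementaryAbelian 2 (zpowers y) := fun {y} hy =>
    SolvSF.ea_of_comm (fun a ha b hb => by
      rcases hpow hy a ha with rfl | rfl <;> rcases hpow hy b hb with rfl | rfl <;> simp)
      fun a ha => by rcases hpow hy a ha with rfl | rfl <;> simp [pow_two, hy]
  have hxz2 := ea_sup (hone hx2) (hone h.z_two) fun p hp q hq => by
    rcases hpow hx2 p hp with rfl | rfl <;> rcases hpow h.z_two q hq with rfl | rfl <;> simp [h.z_cen _ hx]
  have hmem : ∀ w ∈ zpowers x ⊔ zpowers z, w = 1 ∨ w = x ∨ w = z ∨ w = x * z := by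
    intro w hw
    have hn : zpowers x ≤ normalizer (zpowers z : Set G) := zpowers_le.mpr (Comp.mem_normalizer_of_maps fun y hy => by
      rcases hpow h.z_two y hy with rfl | rfl
      · simp
      · rw [h.z_cen x hx, mul_inv_cancel_right]; exact hy)
    rw [← SetLike.mem_coe, Subgroup.coe_mul_of_left_le_normalizer_right _ _ hn] at hw
    obtain ⟨p, hp, q, hq, rfl⟩ := hw
    rcases hpow hx2 p hp with rfl | rfl <;> rcases hpow h.z_two q hq with rfl | rfl <;> simp
  have hcomm : ∀ w ∈ zpowers x ⊔ zpowers z, Commute w a := fun w hw => by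
    rcases hmem w hw with rfl | rfl | rfl | rfl
    exacts [Commute.one_left a, hax.symm, (h.z_cen a ha).symm, Commute.mul_left hax.symm (h.z_cen a ha).symm]
  have hE := ea_sup hxz2 (hone ha2) fun p hp q hq => by
    rcases hpow ha2 q hq with rfl | rfl
    exacts [(Commute.one_right p).eq, (hcomm p hp).eq]
  refine ⟨_, sup_le (sup_le (zpowers_le.mpr hx) (zpowers_le.mpr (h.le h.z_mem))) (zpowers_le.mpr ha), hE, ?_,
    mem_sup_left (mem_sup_left (mem_zpowers x))⟩
  have h3 : 2 < Nat.card ↥(zpowers x ⊔ zpowers z) := by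
    have hle : Nat.card ↥(zpowers x) ≤ Nat.card ↥(zpowers x ⊔ zpowers z) := Subgroup.card_le_of_le le_sup_left
    have hord : Nat.card ↥(zpowers x) = 2 := by
      rw [Nat.card_zpowers]; exact orderOf_eq_prime (by rw [pow_two]; exact hx2) hx1
    refine lt_of_le_of_ne (hord ▸ hle) fun e => ?_
    have e1 := Subgroup.eq_of_le_of_card_ge (le_sup_left : zpowers x ≤ zpowers x ⊔ zpowers z) (by omega)
    rcases hpow hx2 z (e1.ge (mem_sup_right (mem_zpowers z))) with e2 | e2
    exacts [h.z_ne e2, hxz e2.symm]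
  have h4 := four_le_of_two_lt (isPGroup_ea hxz2) h3
  refine eight_le_of_four_lt (isPGroup_ea hE) (lt_of_le_of_ne (h4.trans (Subgroup.card_le_of_le le_sup_left)) fun e => ?_)
  have e1 := Subgroup.eq_of_le_of_card_ge
    (le_sup_left : zpowers x ⊔ zpowers z ≤ (zpowers x ⊔ zpowers z) ⊔ zpowers a) (by omega)
  rcases hmem a (e1.ge (mem_sup_right (mem_zpowers a))) with e2 | e2 | e2 | e2
  exacts [hne.1 e2, hne.2.1 e2, hne.2.2.1 e2, hne.2.2.2 e2]

theorem good_of_mem (hcon : Hyp G) {E : Subgroup G} (hES : E ≤ (S : Subgroup G)) (hE : IsElementaryAbelian 2 E)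
    (hE8 : 8 ≤ Nat.card E) {x : G} (hx : x ∈ U) : Good S x := by
  obtain ⟨-, A, hAS, hA, hA8, hUA⟩ := h.Wf_eight hcon hES hE hE8
  exact ⟨A, hAS, hA, hA8, hUA hx⟩

theorem good_of_cent (hcon : Hyp G) {E : Subgroup G} (hES : E ≤ (S : Subgroup G)) (hE : IsElementaryAbelian 2 E)
    (hE8 : 8 ≤ Nat.card E) {x : G} (hx : x ∈ (S : Subgroup G)) (hx2 : x * x = 1)
    (hxc : x ∈ centralizer (U : Set G)) : Good S x := by
  by_cases hxU : x ∈ U
  · exact h.good_of_mem hcon hES hE hE8 hxU
  refine h.good_of_third (a := u) hx hx2 (fun e => hxU (e ▸ one_mem U)) (fun e => hxU (e ▸ h.z_mem)) (h.le h.u_mem)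
    h.u_two (hxc u h.u_mem) ⟨h.u_ne, fun e => hxU (e ▸ h.u_mem), h.u_ne_z, fun e => hxU ?_⟩
  rw [show x = u * z by rw [e, mul_assoc, h.z_two, mul_one]]
  exact mul_mem h.u_mem h.z_mem

/-- A bad involution centralises an element of order four with square `z`. -/
theorem exists_root (hcon : Hyp G) {E : Subgroup G} (hES : E ≤ (S : Subgroup G)) (hE : IsElementaryAbelian 2 E)
    (hE8 : 8 ≤ Nat.card E) {x : G} (hx : x ∈ (S : Subgroup G)) (hx2 : x * x = 1) (hbad : ¬ Good S x) :
    ∃ c ∈ (S : Subgroup G), c * x = x * c ∧ c * c = z := by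
  haveI := Fact.mk Nat.prime_two
  have hxT : x ∉ centralizer (U : Set G) := fun hc => hbad (h.good_of_cent hcon hES hE hE8 hx hx2 hc)
  have hx1 : x ≠ 1 := fun e => hxT (e ▸ one_mem _)
  have hxz : x ≠ z := fun e => hxT (e ▸ (fun v hv => ea_comm h.ea hv h.z_mem))
  have hzT : z ∈ centralizer (U : Set G) := fun v hv => ea_comm h.ea hv h.z_mem
  -- involutions commuting with `x` in the centraliser of `U`
  have hsmall : ∀ a ∈ (S : Subgroup G), a ∈ centralizer (U : Set G) → a * a = 1 → a * x = x * a → a = 1 ∨ a = z := by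
    intro a ha hac ha2 hax
    by_contra hne
    push Not at hne
    refine hbad (h.good_of_third hx hx2 hx1 hxz ha ha2 hax ⟨hne.1, ?_, hne.2, ?_⟩)
    · intro e; exact hxT (e ▸ hac)
    · intro e
      refine hxT ?_
      have : x = a * z := by rw [e, mul_assoc, h.z_two, mul_one]
      exact this ▸ mul_mem hac hzT
  have hroot : ∀ s ∈ (S : Subgroup G), s * s ≠ 1 → s * x = x * s → ∃ c ∈ (S : Subgroup G), c * x = x * c ∧ c * c = z := by
    intro s hs hs1 hsx
    obtain ⟨n, hn⟩ := S.2 ⟨s, hs⟩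
    have hn' : s ^ 2 ^ n = 1 := congrArg Subtype.val hn
    induction n generalizing s with
    | zero =>
      rw [pow_zero, pow_one] at hn'
      exact absurd (by rw [hn', one_mul]) hs1
    | succ n ih =>
      by_cases hss : s * s * (s * s) = 1
      · refine ⟨s, hs, hsx, (hsmall (s * s) (mul_mem hs hs) (h.sq_mem_cent hs) hss ?_).resolve_left hs1⟩
        exact ((show Commute s x from hsx).mul_left hsx).eq
      · refine ih (s * s) (mul_mem hs hs) hss ((show Commute s x from hsx).mul_left hsx).eq ?_ ?_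
        · refine Subtype.ext ?_
          show (s * s) ^ 2 ^ n = 1
          rw [← pow_two, ← pow_mul, ← pow_succ']
          exact hn'
        · rw [← pow_two, ← pow_mul, ← pow_succ']
          exact hn'
  by_contra hnone
  -- otherwise the centraliser of `x` is a four group
  have hinv : ∀ a ∈ (S : Subgroup G), a * x = x * a → a * a = 1 := fun a ha hax =>
    by_contra fun h2 => hnone (hroot a ha h2 hax)
  -- an involution of `C(U)` outside `U`
  obtain ⟨A, hAS, hA, hA8, hUA⟩ := (h.Wf_eight hcon hES hE hE8).2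
  obtain ⟨e, he, heU⟩ : ∃ e ∈ A, e ∉ U := SetLike.not_le_iff_exists.mp fun hle => by
    have := Subgroup.card_le_of_le hle
    rw [h.card] at this; omega
  have hec : e ∈ centralizer (U : Set G) := fun v hv => ea_comm hA (hUA hv) he
  have he2 : e * e = 1 := ea_two_mul_self hA he
  have hxinv : x⁻¹ = x := inv_eq_of_mul_eq_one_right hx2
  have hnrm : ∀ {t : G}, t ∈ centralizer (U : Set G) → x * t * x⁻¹ ∈ centralizer (U : Set G) := by
    intro t ht v hv
    have hv' : x⁻¹ * v * x ∈ U := (mem_normalizer_iff''.mp (h.nrm hx) v).mp hv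
    calc v * (x * t * x⁻¹) = x * ((x⁻¹ * v * x) * t) * x⁻¹ := by group
      _ = x * (t * (x⁻¹ * v * x)) * x⁻¹ := by rw [ht _ hv']
      _ = x * t * x⁻¹ * v := by group
  -- commutators with `x` in `⟨z⟩` come from `U`
  have hsmallc : ∀ t ∈ (S : Subgroup G), t ∈ centralizer (U : Set G) →
      x * t * x⁻¹ = t ∨ x * t * x⁻¹ = t * z → t ∈ U := by
    intro t ht htc hcase
    have hux : x * u * x⁻¹ = u * z := h.conj_u hx hxT
    have key : ∀ {w : G}, w ∈ (S : Subgroup G) → w ∈ centralizer (U : Set G) → x * w * x⁻¹ = w → w ∈ U := by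
      intro w hw hwc hwx
      have hwx' : w * x = x * w := (mul_inv_eq_iff_eq_mul.mp hwx).symm
      rcases hsmall w hw hwc (hinv w hw hwx') hwx' with e | e
      exacts [e ▸ one_mem U, e ▸ h.z_mem]
    rcases hcase with e | e
    · exact key ht htc e
    · have h1 : t * u ∈ U := key (mul_mem ht (h.le h.u_mem))
        (mul_mem htc fun v hv => ea_comm h.ea hv h.u_mem) (by
          have hzu : z * (u * z) = u := by rw [← mul_assoc, ea_comm h.ea h.z_mem h.u_mem, mul_assoc, h.z_two, mul_one]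
          rw [show x * (t * u) * x⁻¹ = (x * t * x⁻¹) * (x * u * x⁻¹) by group, e, hux, mul_assoc, hzu])
      have := mul_mem h1 h.u_mem
      rwa [mul_assoc, h.u_two, mul_one] at this
  set y := e * (x * e * x⁻¹) with hy
  have hyS : y ∈ (S : Subgroup G) := mul_mem (hAS he) (mul_mem (mul_mem hx (hAS he)) (inv_mem hx))
  have hyc : y ∈ centralizer (U : Set G) := mul_mem hec (hnrm hec)
  have hyx : x * y * x⁻¹ = y⁻¹ := by
    have hei : e⁻¹ = e := inv_eq_of_mul_eq_one_right he2
    rw [hy, mul_inv_rev, show (x * e * x⁻¹)⁻¹ = x * e⁻¹ * x⁻¹ by group, hei]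
    calc x * (e * (x * e * x⁻¹)) * x⁻¹ = x * e * (x * e * (x⁻¹ * x⁻¹)) := by group
      _ = x * e * x⁻¹ * e := by
        rw [hxinv, hx2, mul_one]
        simp only [mul_assoc]
  obtain ⟨n, hn⟩ := S.2 ⟨y, hyS⟩
  have hn' : y ^ 2 ^ n = 1 := congrArg Subtype.val hn
  have hclaim : ∀ (n : ℕ) (w : G), w ∈ (S : Subgroup G) → w ∈ centralizer (U : Set G) → x * w * x⁻¹ = w⁻¹ →
      w ^ 2 ^ n = 1 → w = 1 ∨ w = z := by
    intro n
    induction n with
    | zero => intro w _ _ _ hw; rw [pow_zero, pow_one] at hw; exact Or.inl hw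
    | succ n ih =>
      intro w hw hwc hwx hwn
      rcases ih (w * w) (mul_mem hw hw) (mul_mem hwc hwc)
          (by rw [show x * (w * w) * x⁻¹ = (x * w * x⁻¹) * (x * w * x⁻¹) by group, hwx, mul_inv_rev])
          (by rw [← pow_two, ← pow_mul, ← pow_succ']; exact hwn) with e1 | e1
      · refine hsmall w hw hwc e1 (mul_inv_eq_iff_eq_mul.mp ?_).symm
        rw [hwx]; exact inv_eq_of_mul_eq_one_right e1
      · exfalso
        have hwU : w ∈ U := by
          refine hsmallc w hw hwc (Or.inr ?_)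
          rw [hwx]
          refine inv_eq_of_mul_eq_one_right ?_
          rw [← mul_assoc, e1, h.z_two]
        exact h.z_ne (e1.symm.trans (ea_two_mul_self h.ea hwU))
  refine heU (hsmallc e (hAS he) hec ?_)
  rcases hclaim n y hyS hyc hyx hn' with e1 | e1
  · left
    rw [hy] at e1
    exact mul_left_cancel (e1.trans he2.symm)
  · right
    rw [hy] at e1
    refine mul_left_cancel (a := e) ?_
    rw [e1, ← mul_assoc, he2, one_mul]

end NormFour

end CfsgLib.TwoLocalSignalizer
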